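/-
Tables for the twisted group of type F4 over two elements (machine generated, kernel checked where used).
-/

set_option autoImplicit false

namespace CfsgLib.Lie.Tits

/-- the odd entries of the root elements -/
def tabF4 : List (List (Nat × Nat)) := [

  [(0, 51), (2, 51), (4, 3), (4, 51), (5, 28), (6, 30), (7, 33), (8, 35), (9, 36), (11, 40), (12, 42), (13, 43), (15, 44), (19, 46), (20, 47), (22, 48), (25, 49), (27, 50)],
  [(0, 50), (5, 2), (2, 50), (5, 3), (3, 50), (5, 50), (4, 27), (6, 29), (7, 32), (8, 34), (10, 36), (11, 39), (12, 41), (14, 43), (16, 44), (19, 45), (21, 47), (23, 48), (26, 49), (28, 51)],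
  [(0, 49), (6, 2), (3, 49), (6, 49), (4, 25), (5, 26), (7, 31), (9, 34), (10, 35), (11, 38), (13, 41), (14, 42), (17, 44), (20, 45), (21, 46), (24, 48), (29, 50), (30, 51)],
  [(7, 0), (1, 48), (7, 48), (11, 37), (12, 38), (13, 39), (14, 40), (15, 41), (16, 42), (17, 43), (18, 44), (22, 45), (4, 45), (23, 46), (5, 46), (24, 47), (6, 47), (31, 49), (8, 49), (32, 50), (9, 50), (33, 51), (10, 51)],
  [(0, 47), (1, 47), (8, 2), (3, 47), (8, 47), (4, 20), (5, 21), (7, 24), (9, 29), (10, 30), (12, 37), (15, 39), (16, 40), (18, 43), (25, 45), (26, 46), (31, 48), (34, 50), (35, 51)],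
  [(0, 46), (1, 46), (9, 2), (2, 46), (9, 3), (3, 46), (9, 46), (4, 19), (6, 21), (7, 23), (8, 26), (10, 28), (13, 37), (15, 38), (17, 40), (18, 42), (27, 45), (29, 47), (32, 48), (34, 49), (36, 51)],
  [(0, 45), (1, 45), (2, 45), (10, 3), (10, 45), (5, 19), (6, 20), (7, 22), (8, 25), (9, 27), (14, 37), (16, 38), (17, 39), (18, 41), (28, 46), (30, 47), (33, 48), (35, 49), (36, 50)],
  [(11, 0), (0, 44), (11, 1), (1, 44), (11, 44), (7, 18), (12, 31), (13, 32), (14, 33), (15, 34), (4, 34), (16, 35), (5, 35), (17, 36), (6, 36), (22, 41), (23, 42), (24, 43), (37, 48), (38, 49), (19, 49), (39, 50), (20, 50), (40, 51), (21, 51)],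
  [(0, 43), (12, 1), (12, 2), (12, 43), (7, 17), (11, 24), (13, 29), (4, 29), (14, 30), (5, 30), (15, 32), (16, 33), (18, 36), (8, 36), (22, 39), (23, 40), (31, 44), (37, 47), (19, 47), (38, 48), (41, 50), (25, 50), (42, 51), (26, 51)],
  [(0, 42), (13, 1), (13, 2), (13, 3), (13, 42), (7, 16), (11, 23), (12, 26), (4, 26), (14, 28), (6, 28), (15, 31), (17, 33), (18, 35), (9, 35), (22, 38), (24, 40), (32, 44), (37, 46), (20, 46), (39, 48), (41, 49), (27, 49), (43, 51), (29, 51)],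
  [(0, 41), (14, 1), (14, 3), (14, 41), (7, 15), (11, 22), (12, 25), (5, 25), (13, 27), (6, 27), (16, 31), (17, 32), (18, 34), (10, 34), (23, 38), (24, 39), (33, 44), (37, 45), (21, 45), (40, 48), (42, 49), (28, 49), (43, 50), (30, 50)],
  [(15, 0), (0, 40), (15, 1), (1, 40), (15, 3), (15, 40), (7, 14), (11, 21), (4, 21), (12, 23), (13, 24), (16, 28), (8, 28), (17, 30), (9, 30), (18, 33), (22, 37), (31, 42), (32, 43), (38, 46), (25, 46), (39, 47), (27, 47), (41, 48), (44, 51), (34, 51)],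
  [(16, 0), (0, 39), (16, 1), (1, 39), (16, 2), (16, 3), (16, 39), (7, 13), (11, 20), (5, 20), (12, 22), (14, 24), (15, 27), (8, 27), (17, 29), (10, 29), (18, 32), (23, 37), (31, 41), (33, 43), (38, 45), (26, 45), (40, 47), (28, 47), (42, 48), (44, 50), (35, 50)],
  [(17, 0), (0, 38), (17, 1), (1, 38), (17, 2), (17, 38), (7, 12), (11, 19), (6, 19), (13, 22), (14, 23), (15, 25), (9, 25), (16, 26), (10, 26), (18, 31), (24, 37), (32, 41), (33, 42), (39, 45), (29, 45), (40, 46), (30, 46), (43, 48), (44, 49), (36, 49)],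
  [(0, 37), (18, 1), (18, 37), (7, 11), (12, 19), (8, 19), (13, 20), (9, 20), (14, 21), (10, 21), (15, 22), (16, 23), (17, 24), (31, 38), (32, 39), (33, 40), (41, 45), (34, 45), (42, 46), (35, 46), (43, 47), (36, 47), (44, 48)],
  [(1, 36), (19, 2), (3, 36), (19, 36), (4, 9), (5, 10), (11, 17), (12, 18), (20, 29), (21, 30), (22, 32), (23, 33), (25, 34), (26, 35), (37, 43), (38, 44), (45, 50), (46, 51)],
  [(1, 35), (20, 2), (2, 35), (20, 3), (3, 35), (20, 35), (4, 8), (6, 10), (11, 16), (13, 18), (19, 26), (21, 28), (22, 31), (24, 33), (27, 34), (29, 36), (37, 42), (39, 44), (45, 49), (47, 51)],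
  [(1, 34), (2, 34), (21, 3), (21, 34), (5, 8), (6, 9), (11, 15), (14, 18), (19, 25), (20, 27), (23, 31), (24, 32), (28, 35), (30, 36), (37, 41), (40, 44), (46, 49), (47, 50)],
  [(22, 0), (1, 33), (22, 3), (22, 33), (7, 10), (4, 10), (11, 14), (12, 16), (13, 17), (15, 18), (23, 28), (19, 28), (24, 30), (20, 30), (31, 35), (25, 35), (32, 36), (27, 36), (37, 40), (38, 42), (39, 43), (41, 44), (48, 51), (45, 51)],
  [(23, 0), (1, 32), (23, 2), (23, 3), (23, 32), (7, 9), (5, 9), (11, 13), (12, 15), (14, 17), (16, 18), (22, 27), (19, 27), (24, 29), (21, 29), (31, 34), (26, 34), (33, 36), (28, 36), (37, 39), (38, 41), (40, 43), (42, 44), (48, 50), (46, 50)],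
  [(24, 0), (1, 31), (24, 2), (24, 31), (7, 8), (6, 8), (11, 12), (13, 15), (14, 16), (17, 18), (22, 25), (20, 25), (23, 26), (21, 26), (32, 34), (29, 34), (33, 35), (30, 35), (37, 38), (39, 41), (40, 42), (43, 44), (48, 49), (47, 49)],
  [(25, 2), (2, 30), (25, 3), (3, 30), (25, 30), (4, 6), (8, 10), (12, 14), (15, 17), (19, 21), (22, 24), (26, 28), (27, 29), (31, 33), (34, 36), (38, 40), (41, 43), (45, 47), (49, 51)],
  [(2, 29), (26, 3), (26, 29), (5, 6), (8, 9), (12, 13), (16, 17), (19, 20), (23, 24), (25, 27), (28, 30), (31, 32), (35, 36), (38, 39), (42, 43), (46, 47), (49, 50)],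
  [(27, 2), (3, 28), (27, 28), (4, 5), (9, 10), (13, 14), (15, 16), (20, 21), (22, 23), (25, 26), (29, 30), (32, 33), (34, 35), (39, 40), (41, 42), (45, 46), (50, 51)],
  [(28, 2), (3, 27), (28, 27), (5, 4), (10, 9), (14, 13), (16, 15), (21, 20), (23, 22), (26, 25), (30, 29), (33, 32), (35, 34), (40, 39), (42, 41), (46, 45), (51, 50)],
  [(2, 26), (29, 3), (29, 26), (6, 5), (9, 8), (13, 12), (17, 16), (20, 19), (24, 23), (27, 25), (30, 28), (32, 31), (36, 35), (39, 38), (43, 42), (47, 46), (50, 49)],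
  [(30, 2), (2, 25), (30, 3), (3, 25), (30, 25), (6, 4), (10, 8), (14, 12), (17, 15), (21, 19), (24, 22), (28, 26), (29, 27), (33, 31), (36, 34), (40, 38), (43, 41), (47, 45), (51, 49)],
  [(31, 0), (1, 24), (31, 2), (31, 24), (7, 6), (8, 6), (12, 11), (15, 13), (16, 14), (18, 17), (22, 20), (25, 20), (23, 21), (26, 21), (32, 29), (34, 29), (33, 30), (35, 30), (38, 37), (41, 39), (42, 40), (44, 43), (48, 47), (49, 47)],
  [(32, 0), (1, 23), (32, 2), (32, 3), (32, 23), (7, 5), (9, 5), (13, 11), (15, 12), (17, 14), (18, 16), (22, 19), (27, 19), (24, 21), (29, 21), (31, 26), (34, 26), (33, 28), (36, 28), (39, 37), (41, 38), (43, 40), (44, 42), (48, 46), (50, 46)],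
  [(33, 0), (1, 22), (33, 3), (33, 22), (7, 4), (10, 4), (14, 11), (16, 12), (17, 13), (18, 15), (23, 19), (28, 19), (24, 20), (30, 20), (31, 25), (35, 25), (32, 27), (36, 27), (40, 37), (42, 38), (43, 39), (44, 41), (48, 45), (51, 45)],
  [(1, 21), (2, 21), (34, 3), (34, 21), (8, 5), (9, 6), (15, 11), (18, 14), (25, 19), (27, 20), (31, 23), (32, 24), (35, 28), (36, 30), (41, 37), (44, 40), (49, 46), (50, 47)],
  [(1, 20), (35, 2), (2, 20), (35, 3), (3, 20), (35, 20), (8, 4), (10, 6), (16, 11), (18, 13), (26, 19), (28, 21), (31, 22), (33, 24), (34, 27), (36, 29), (42, 37), (44, 39), (49, 45), (51, 47)],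
  [(1, 19), (36, 2), (3, 19), (36, 19), (9, 4), (10, 5), (17, 11), (18, 12), (29, 20), (30, 21), (32, 22), (33, 23), (34, 25), (35, 26), (43, 37), (44, 38), (50, 45), (51, 46)],
  [(0, 18), (37, 1), (37, 18), (11, 7), (12, 8), (19, 8), (13, 9), (20, 9), (14, 10), (21, 10), (22, 15), (23, 16), (24, 17), (38, 31), (39, 32), (40, 33), (41, 34), (45, 34), (42, 35), (46, 35), (43, 36), (47, 36), (48, 44)],
  [(38, 0), (0, 17), (38, 1), (1, 17), (38, 2), (38, 17), (11, 6), (19, 6), (12, 7), (15, 9), (25, 9), (16, 10), (26, 10), (22, 13), (23, 14), (31, 18), (37, 24), (39, 29), (45, 29), (40, 30), (46, 30), (41, 32), (42, 33), (44, 36), (49, 36), (48, 43)],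
  [(39, 0), (0, 16), (39, 1), (1, 16), (39, 2), (39, 3), (39, 16), (11, 5), (20, 5), (13, 7), (15, 8), (27, 8), (17, 10), (29, 10), (22, 12), (24, 14), (32, 18), (37, 23), (38, 26), (45, 26), (40, 28), (47, 28), (41, 31), (43, 33), (44, 35), (50, 35), (48, 42)],
  [(40, 0), (0, 15), (40, 1), (1, 15), (40, 3), (40, 15), (11, 4), (21, 4), (14, 7), (16, 8), (28, 8), (17, 9), (30, 9), (23, 12), (24, 13), (33, 18), (37, 22), (38, 25), (46, 25), (39, 27), (47, 27), (42, 31), (43, 32), (44, 34), (51, 34), (48, 41)],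
  [(0, 14), (41, 1), (41, 3), (41, 14), (12, 5), (25, 5), (13, 6), (27, 6), (15, 7), (18, 10), (34, 10), (22, 11), (31, 16), (32, 17), (37, 21), (45, 21), (38, 23), (39, 24), (42, 28), (49, 28), (43, 30), (50, 30), (44, 33), (48, 40)],
  [(0, 13), (42, 1), (42, 2), (42, 3), (42, 13), (12, 4), (26, 4), (14, 6), (28, 6), (16, 7), (18, 9), (35, 9), (23, 11), (31, 15), (33, 17), (37, 20), (46, 20), (38, 22), (40, 24), (41, 27), (49, 27), (43, 29), (51, 29), (44, 32), (48, 39)],
  [(0, 12), (43, 1), (43, 2), (43, 12), (13, 4), (29, 4), (14, 5), (30, 5), (17, 7), (18, 8), (36, 8), (24, 11), (32, 15), (33, 16), (37, 19), (47, 19), (39, 22), (40, 23), (41, 25), (50, 25), (42, 26), (51, 26), (44, 31), (48, 38)],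
  [(44, 0), (0, 11), (44, 1), (1, 11), (44, 11), (15, 4), (34, 4), (16, 5), (35, 5), (17, 6), (36, 6), (18, 7), (31, 12), (32, 13), (33, 14), (38, 19), (49, 19), (39, 20), (50, 20), (40, 21), (51, 21), (41, 22), (42, 23), (43, 24), (48, 37)],
  [(0, 10), (1, 10), (2, 10), (45, 3), (45, 10), (19, 5), (20, 6), (22, 7), (25, 8), (27, 9), (37, 14), (38, 16), (39, 17), (41, 18), (46, 28), (47, 30), (48, 33), (49, 35), (50, 36)],
  [(0, 9), (1, 9), (46, 2), (2, 9), (46, 3), (3, 9), (46, 9), (19, 4), (21, 6), (23, 7), (26, 8), (28, 10), (37, 13), (38, 15), (40, 17), (42, 18), (45, 27), (47, 29), (48, 32), (49, 34), (51, 36)],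
  [(0, 8), (1, 8), (47, 2), (3, 8), (47, 8), (20, 4), (21, 5), (24, 7), (29, 9), (30, 10), (37, 12), (39, 15), (40, 16), (43, 18), (45, 25), (46, 26), (48, 31), (50, 34), (51, 35)],
  [(48, 0), (1, 7), (48, 7), (22, 4), (45, 4), (23, 5), (46, 5), (24, 6), (47, 6), (31, 8), (49, 8), (32, 9), (50, 9), (33, 10), (51, 10), (37, 11), (38, 12), (39, 13), (40, 14), (41, 15), (42, 16), (43, 17), (44, 18)],
  [(0, 6), (49, 2), (3, 6), (49, 6), (25, 4), (26, 5), (31, 7), (34, 9), (35, 10), (38, 11), (41, 13), (42, 14), (44, 17), (45, 20), (46, 21), (48, 24), (50, 29), (51, 30)],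
  [(0, 5), (50, 2), (2, 5), (50, 3), (3, 5), (50, 5), (27, 4), (29, 6), (32, 7), (34, 8), (36, 10), (39, 11), (41, 12), (43, 14), (44, 16), (45, 19), (47, 21), (48, 23), (49, 26), (51, 28)],
  [(0, 4), (2, 4), (51, 3), (51, 4), (28, 5), (30, 6), (33, 7), (35, 8), (36, 9), (40, 11), (42, 12), (43, 13), (44, 15), (46, 19), (47, 20), (48, 22), (49, 25), (50, 27)]]

/-- the packed identity -/
def idF4 : Nat := 4831458791905441912453582983313553767418113031359644012566243278081103618891756960265778003995587697199194753342912158943085149762628270928447260257463448519704125879415355095248481849545517863583770251321171858604691369828047845994246379531532855330275885120880181888401730846932905801514567307669776073172260041386410299880745207547213894984056279415010184854479524438015435106117519724509236372220975382953688081990285858020032683647055215745817565323072298980945793598866164854070906352661157661768736042999742248959963210465203478535898230983665872123085571387354825801536728571382400205669837725048548952899062377318759935575941294227990379218664102630609612347185687126865051634528880608731095920532189224749044318799926650735225536324197290637237432355251428142310517188488051787852686380855853276184182785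

/-- root words: the positive classes, two Weyl elements, negative generators -/
def letW : List (List Nat) := [
  [33, 24], [27, 25, 28], [28, 30], [27, 25, 30], [34, 26, 36], [36, 42], [34, 26, 42], [37, 32],
  [35, 31, 40], [40, 46], [35, 31, 46], [38, 43], [29, 41, 44], [44, 47], [29, 41, 47], [39, 45],
  [33, 14, 33, 24, 23, 24], [27, 20, 27, 25, 22, 25, 27, 20, 27, 25, 22, 25], [14, 23], [20, 22, 19],
  [19, 17], [20, 22, 17]]

/-- parities of the letters -/
def letP : List Bool := [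
  false, true, false, true, true, false, true, false, true, false, true, false, true, false, true, false,
  false, false, false, true, false, true]

/-- the letters of the positive classes -/
def cls : List (List Nat) := [
  [0], [1, 2, 3], [4, 5, 6], [7], [8, 9, 10], [11], [12, 13, 14], [15]]

/-- the classes, ordered with the second one first -/
def cls1 : List (List Nat) := [
  [1, 2, 3], [0], [4, 5, 6], [7], [8, 9, 10], [11], [12, 13, 14], [15]]

/-- conjugates of class letters -/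
def conjTab : List (Nat × Nat × List Nat) := [
  (0, 1, [1, 4, 7, 14]), (0, 2, [2, 5, 7, 10, 11, 14, 15]), (0, 3, [3, 6, 7, 10, 11]), (0, 4, [4]),
  (0, 5, [5]), (0, 6, [6]), (0, 7, [7, 11, 15]), (0, 8, [5, 8, 11, 13]), (0, 9, [9, 13]),
  (0, 10, [5, 10, 11]), (0, 11, [11]), (0, 12, [5, 12]), (0, 13, [13]), (0, 14, [5, 14]), (0, 15, [15]),
  (1, 0, [0, 4, 7, 10, 11, 15]), (1, 4, [4, 8, 11, 12, 15]), (1, 5, [5, 9, 11, 15]), (1, 6, [6, 10, 12]),
  (1, 7, [7]), (1, 8, [7, 8]), (1, 9, [9]), (1, 10, [7, 10]), (1, 11, [11, 13, 15]), (1, 12, [12]),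
  (1, 13, [13]), (1, 14, [14]), (1, 15, [9, 15]), (2, 0, [0, 5, 7, 10, 11, 12]), (2, 4, [4, 7, 9, 13]),
  (2, 5, [5, 9, 13, 15]), (2, 6, [6, 7, 13, 15]), (2, 7, [7]), (2, 8, [8]), (2, 9, [9]), (2, 10, [10]),
  (2, 11, [9, 11]), (2, 12, [12]), (2, 13, [13]), (2, 14, [14]), (2, 15, [15]), (3, 0, [0, 6, 7, 11, 12, 15]),
  (3, 4, [4, 7, 8, 11, 14, 15]), (3, 5, [5, 9, 11, 13]), (3, 6, [6, 7, 10, 14, 15]), (3, 7, [7]),
  (3, 8, [7, 8]), (3, 9, [9]), (3, 10, [7, 10]), (3, 11, [9, 11, 13, 15]), (3, 12, [12]), (3, 13, [13]),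
  (3, 14, [14]), (3, 15, [9, 15]), (4, 7, [7, 9, 15]), (4, 8, [8]), (4, 9, [9]), (4, 10, [10]), (4, 11, [11]),
  (4, 12, [11, 12]), (4, 13, [13]), (4, 14, [11, 14]), (4, 15, [13, 15]), (5, 7, [7, 13]), (5, 8, [8]),
  (5, 9, [9]), (5, 10, [10]), (5, 11, [11]), (5, 12, [12]), (5, 13, [13]), (5, 14, [14]), (5, 15, [15]),
  (6, 7, [7, 9, 13, 15]), (6, 8, [8]), (6, 9, [9]), (6, 10, [10]), (6, 11, [11]), (6, 12, [11, 12]),
  (6, 13, [13]), (6, 14, [11, 14]), (6, 15, [13, 15]), (7, 8, [8]), (7, 9, [9]), (7, 10, [10]), (7, 11, [11]),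
  (7, 12, [9, 12]), (7, 13, [13]), (7, 14, [9, 14]), (7, 15, [15]), (8, 11, [11, 13]), (8, 12, [12, 15]),
  (8, 13, [13]), (8, 14, [14, 15]), (8, 15, [15]), (9, 11, [11]), (9, 12, [12]), (9, 13, [13]), (9, 14, [14]),
  (9, 15, [15]), (10, 11, [11, 13]), (10, 12, [12, 15]), (10, 13, [13]), (10, 14, [14, 15]), (10, 15, [15]),
  (11, 12, [12]), (11, 13, [13]), (11, 14, [14]), (11, 15, [15]), (12, 15, [15]), (13, 15, [15]),
  (14, 15, [15])]

/-- products inside a class -/
def mulTab : List (Nat × Nat × List Nat) := [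
  (0, 0, []), (1, 1, [2]), (1, 2, [3]), (1, 3, []), (2, 1, [3]), (2, 2, []), (2, 3, [1]), (3, 1, []),
  (3, 2, [1]), (3, 3, [2]), (4, 4, [5]), (4, 5, [6]), (4, 6, []), (5, 4, [6]), (5, 5, []), (5, 6, [4]),
  (6, 4, []), (6, 5, [4]), (6, 6, [5]), (7, 7, []), (8, 8, [9]), (8, 9, [10]), (8, 10, []), (9, 8, [10]),
  (9, 9, []), (9, 10, [8]), (10, 8, []), (10, 9, [8]), (10, 10, [9]), (11, 11, []), (12, 12, [13]),
  (12, 13, [14]), (12, 14, []), (13, 12, [14]), (13, 13, []), (13, 14, [12]), (14, 12, []), (14, 13, [12]),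
  (14, 14, [13]), (15, 15, [])]

/-- the words of the sixteen Weyl elements -/
def stW : List (List Nat) := [
  [], [16], [17], [17, 16], [16, 17], [16, 17, 16], [17, 16, 17], [17, 16, 17, 16], [16, 17, 16, 17],
  [16, 17, 16, 17, 16], [17, 16, 17, 16, 17], [17, 16, 17, 16, 17, 16], [16, 17, 16, 17, 16, 17],
  [16, 17, 16, 17, 16, 17, 16], [17, 16, 17, 16, 17, 16, 17], [17, 16, 17, 16, 17, 16, 17, 16]]

/-- left multiplication of Weyl elements -/
def transTab : List (Nat × Nat) := [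
  (1, 2), (0, 3), (4, 0), (5, 1), (2, 6), (3, 7), (8, 4), (9, 5), (6, 10), (7, 11), (12, 8), (13, 9),
  (10, 14), (11, 15), (15, 12), (14, 13)]

/-- classes staying positive -/
def posTab : List (Nat × Nat × List Nat) := [
  (0, 0, [0]), (0, 1, [1, 2, 3]), (1, 1, [4, 5, 6]), (2, 0, [7]), (3, 0, [11]), (4, 1, [8, 9, 10]),
  (5, 1, [12, 13, 14]), (6, 0, [15]), (7, 0, [15]), (8, 1, [12, 13, 14]), (9, 1, [8, 9, 10]), (10, 0, [11]),
  (11, 0, [7]), (12, 1, [4, 5, 6]), (13, 1, [1, 2, 3]), (14, 0, [0])]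

/-- action of the two Weyl generators on the radicals -/
def njTab : List (Nat × Nat × Nat) := [
  (0, 1, 4), (0, 2, 5), (0, 3, 6), (0, 4, 1), (0, 5, 2), (0, 6, 3), (0, 7, 11), (0, 8, 12), (0, 9, 13),
  (0, 10, 14), (0, 11, 7), (0, 12, 8), (0, 13, 9), (0, 14, 10), (0, 15, 15), (1, 0, 7), (1, 4, 8), (1, 5, 9),
  (1, 6, 10), (1, 7, 0), (1, 8, 4), (1, 9, 5), (1, 10, 6), (1, 11, 15), (1, 12, 12), (1, 13, 13), (1, 14, 14),
  (1, 15, 11)]

/-- rank one relations -/
def rkTab : List (Nat × Nat × Nat × Nat) := [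
  (0, 0, 0, 0), (1, 1, 1, 2), (1, 2, 3, 1), (1, 3, 2, 3)]

/-- letters as conjugates of simple class letters -/
def baseTab : List (Nat × Nat × Nat) := [
  (0, 0, 0), (1, 0, 1), (2, 0, 2), (3, 0, 3), (4, 1, 1), (5, 1, 2), (6, 1, 3), (7, 2, 0), (8, 3, 1),
  (9, 3, 2), (10, 3, 3), (11, 4, 0), (12, 5, 1), (13, 5, 2), (14, 5, 3), (15, 6, 0)]

/-- negative generators as conjugates -/
def negTab : List (Nat × Nat × Nat) := [
  (18, 0, 0), (19, 1, 1), (20, 1, 2), (21, 1, 3)]

/-- the second Weyl generator from the generators -/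
def nbW : List Nat := [
  3, 19, 2]

end CfsgLib.Lie.Tits
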