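/-
Kernel checked evaluation of words of root elements over the field with two elements, on matrices packed in naturals.
-/
import Cfsg.Agent.Lib.Lie.Chev.Basic
import Cfsg.Agent.Lib.Lie.Rel.Inst
import Cfsg.Agent.Lib.Lie.Twisted.WordCalc

set_option autoImplicit false

namespace CfsgLib.Lie.TitsEval

open Cfsg.Lie (ChevalleyDatum)
open CfsgLib.Lie.Chev
open scoped Matrix

/-- the odd entries of `x_r(1) - 1` -/
def oddEntries (D : ChevalleyDatum) (r : ℕ) : List (ℕ × ℕ) :=
  ((entries D r).filter fun e => !Nat.beq (e.2.2.2.natAbs % 2) 0).map fun e => (e.2.1, e.2.2.1)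

/-- left multiplication by a root element, on `k` packed columns -/
def stepP (k : ℕ) (L : List (ℕ × ℕ)) (M : ℕ) : ℕ :=
  L.foldl (fun acc e => acc ^^^ (((M >>> (k * e.2)) &&& (2 ^ k - 1)) <<< (k * e.1))) M

/-- left multiplication by a word of root elements -/
def runP (k : ℕ) (tab : List (List (ℕ × ℕ))) (w : List ℕ) (M : ℕ) : ℕ :=
  w.foldr (fun r acc => stepP k (tab.getD r []) acc) M

/-- the boolean of a bit as a scalar -/
def b2z (b : Bool) : ZMod 2 := bif b then 1 else 0

theorem b2z_xor : ∀ p q : Bool, b2z (p ^^ q) = b2z p + b2z q := by decide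

theorem b2z_inj : ∀ p q : Bool, b2z p = b2z q → p = q := by decide

theorem b2z_and : ∀ p q : Bool, b2z (p && q) = b2z p * b2z q := by decide

variable {k : ℕ}

theorem testBit_piece (_hk : 0 < k) (M i j a b : ℕ) (hb : b < k) :
    (((M >>> (k * j)) &&& (2 ^ k - 1)) <<< (k * i)).testBit (k * a + b) = (decide (i = a) && M.testBit (k * j + b)) := by
  rw [Nat.testBit_shiftLeft]
  rcases lt_trichotomy a i with h | rfl | h
  · have h1 : k * a + b < k * i := by
      calc k * a + b < k * a + k := by omega
        _ = k * (a + 1) := by ring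
        _ ≤ k * i := Nat.mul_le_mul_left k h
    simp [show ¬ (i = a) by omega, show ¬ (k * i ≤ k * a + b) by omega]
  · simp [hb, Nat.testBit_shiftRight]
  · have h1 : k * i + k ≤ k * a + b := by
      calc k * i + k = k * (i + 1) := by ring
        _ ≤ k * a := Nat.mul_le_mul_left k h
        _ ≤ k * a + b := Nat.le_add_right _ _
    simp [show ¬ (i = a) by omega, show ¬ (k * a + b - k * i < k) by omega]

theorem testBit_stepP (hk : 0 < k) (M a b : ℕ) (hb : b < k) :
    ∀ (L : List (ℕ × ℕ)) (acc : ℕ),
      b2z ((L.foldl (fun acc e => acc ^^^ (((M >>> (k * e.2)) &&& (2 ^ k - 1)) <<< (k * e.1))) acc).testBit (k * a + b)) =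
        b2z (acc.testBit (k * a + b)) +
          (L.map fun e => if e.1 = a then b2z (M.testBit (k * e.2 + b)) else 0).sum := by
  intro L
  induction L with
  | nil => intro acc; simp
  | cons e L ih =>
    intro acc
    rw [List.foldl_cons, ih, List.map_cons, List.sum_cons, Nat.testBit_xor, b2z_xor, testBit_piece hk _ _ _ _ _ hb]
    by_cases h : e.1 = a
    · simp [h, add_assoc]
    · simp [h, b2z]

variable {D : ChevalleyDatum}

/-- a packed natural as a matrix with `k` columns -/
def matP (D : ChevalleyDatum) (k : ℕ) (M : ℕ) : Matrix D.Idx (Fin k) (ZMod 2) :=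
  Matrix.of fun a b => b2z (M.testBit (k * code D a + b))

theorem cast_two_parity (c : ℤ) : (c : ZMod 2) = if c.natAbs % 2 = 0 then 0 else 1 := by
  split_ifs with h
  · exact (ZMod.intCast_zmod_eq_zero_iff_dvd c 2).2 (by omega)
  · have h1 : (2 : ℤ) ∣ c - 1 := by omega
    have h2 := (ZMod.intCast_zmod_eq_zero_iff_dvd (c - 1) 2).2 h1
    push_cast at h2
    exact sub_eq_zero.1 h2

theorem matOf_mul (L : List (ℕ × ℕ × ℕ × ℤ)) (hcol : ∀ e ∈ L, e.2.2.1 < D.rank + D.nroots) (M : ℕ)
    (a : D.Idx) (b : Fin k) :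
    (matOf D L (1 : ZMod 2) * matP D k M) a b =
      ((((L.filter fun e => !Nat.beq (e.2.2.2.natAbs % 2) 0).map fun e => (e.2.1, e.2.2.1))).map fun e =>
        if e.1 = code D a then b2z (M.testBit (k * e.2 + b)) else 0).sum := by
  induction L with
  | nil => simp [matOf_nil]
  | cons e L ih =>
    have ih' := ih fun x hx => hcol x (List.mem_cons_of_mem _ hx)
    have h1 : matOf D (e :: L) (1 : ZMod 2) = matOf D [e] 1 + matOf D L 1 := matOf_append D [e] L 1
    obtain ⟨c, hc⟩ := exists_code D (hcol e List.mem_cons_self)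
    have h2 : (matOf D [e] (1 : ZMod 2) * matP D k M) a b =
        if e.2.1 = code D a then (e.2.2.2 : ZMod 2) * b2z (M.testBit (k * e.2.2.1 + b)) else 0 := by
      rw [Matrix.mul_apply, Finset.sum_eq_single c]
      · by_cases ha : e.2.1 = code D a <;> simp [matOf, matP, ha, hc]
      · intro x _ hx
        have : ¬ e.2.2.1 = code D x := fun h => hx (code_injective D (h.symm.trans hc.symm))
        simp [matOf, this]
      · simp
    rw [h1, Matrix.add_mul, Matrix.add_apply, h2, ih', cast_two_parity]
    by_cases hp : e.2.2.2.natAbs % 2 = 0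
    · rw [List.filter_cons_of_neg (by simp [hp]), if_pos hp]; simp
    · rw [List.filter_cons_of_pos (by simpa [Bool.eq_false_iff, nat_beq_iff] using hp), List.map_cons, List.map_cons, List.sum_cons, if_neg hp, one_mul]

/-- the table is the table of odd entries -/
def chkTab (D : ChevalleyDatum) (tab : List (List (ℕ × ℕ))) : Bool :=
  (List.range D.nroots).all fun r => !Nat.beq (D.neg r) r &&
    ((row D r).all fun e => !Nat.beq e.1 r && !Nat.beq e.1 (D.neg r)) &&
    ((entries D r).all fun e => Nat.blt e.2.2.1 (D.rank + D.nroots)) && decide (tab.getD r [] = oddEntries D r)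

variable {tab : List (List (ℕ × ℕ))}

theorem step_spec (ht : chkTab D tab = true) (hk : 0 < k) {r : ℕ} (hr : r < D.nroots) (M : ℕ) :
    D.x (ZMod 2) r 1 * matP D k M = matP D k (stepP k (tab.getD r []) M) := by
  simp only [chkTab, Bool.and_eq_true, List.all_eq_true, List.mem_range, Bool.not_eq_true', decide_eq_true_iff,
    nat_blt_iff] at ht
  obtain ⟨⟨⟨h1, h2⟩, h3⟩, h4⟩ := ht r hr
  rw [← Bool.not_eq_true, nat_beq_iff] at h1
  rw [xMat_eq D hr h1 (fun e he => by
    have := h2 e he
    rw [← Bool.not_eq_true, nat_beq_iff, ← Bool.not_eq_true, nat_beq_iff] at this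
    exact this), Matrix.add_mul, Matrix.one_mul]
  ext a b
  rw [Matrix.add_apply, matOf_mul _ h3]
  show _ = b2z ((stepP k (tab.getD r []) M).testBit _)
  rw [stepP, testBit_stepP hk _ _ _ b.2, h4]
  rfl

/-- a word with all parameters one -/
def ones (w : List ℕ) : List (ℕ × ZMod 2) := w.map fun r => (r, 1)

theorem run_spec (ht : chkTab D tab = true) (hk : 0 < k) : ∀ (w : List ℕ), (∀ r ∈ w, r < D.nroots) → ∀ M : ℕ,
    D.wordMat (ZMod 2) (ones w) * matP D k M = matP D k (runP k tab w M) := by
  intro w
  induction w with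
  | nil => intro _ M; simp [ones, ChevalleyDatum.wordMat, runP]
  | cons r w ih =>
    intro hw M
    have e : D.wordMat (ZMod 2) (ones (r :: w)) = D.x (ZMod 2) r 1 * D.wordMat (ZMod 2) (ones w) := by
      simp [ones, ChevalleyDatum.wordMat]
    rw [e, Matrix.mul_assoc, ih (fun x hx => hw x (List.mem_cons_of_mem _ hx)), step_spec ht hk (hw r List.mem_cons_self)]
    rfl

/-- the packed identity matrix -/
def idP (n : ℕ) : ℕ := (List.range n).foldl (fun acc i => acc ^^^ ((1 : ℕ) <<< (n * i + i))) 0

/-- the packed matrix really is the identity -/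
def chkId (D : ChevalleyDatum) (I : ℕ) : Bool :=
  (List.range (D.rank + D.nroots)).all fun i => (List.range (D.rank + D.nroots)).all fun j =>
    decide (I.testBit ((D.rank + D.nroots) * i + j) = Nat.beq i j)

/-- column indices of the index set -/
def colIdx (D : ChevalleyDatum) (a : D.Idx) : Fin (D.rank + D.nroots) := ⟨code D a, code_lt D a⟩

theorem wordMat_eq_of_run (ht : chkTab D tab = true) {I : ℕ} (hI : chkId D I = true) {w w' : List ℕ}
    (hw : ∀ r ∈ w, r < D.nroots) (hw' : ∀ r ∈ w', r < D.nroots)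
    (e : Nat.beq (runP (D.rank + D.nroots) tab w I) (runP (D.rank + D.nroots) tab w' I) = true) :
    D.wordMat (ZMod 2) (ones w) = D.wordMat (ZMod 2) (ones w') := by
  simp only [chkId, List.all_eq_true, List.mem_range, decide_eq_true_iff] at hI
  by_cases hk : 0 < D.rank + D.nroots
  · have h : D.wordMat (ZMod 2) (ones w) * matP D (D.rank + D.nroots) I =
        D.wordMat (ZMod 2) (ones w') * matP D (D.rank + D.nroots) I := by
      rw [run_spec ht hk w hw, run_spec ht hk w' hw', nat_beq_iff.1 e]
    ext a c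
    have h1 := congrFun (congrFun h a) (colIdx D c)
    rw [Matrix.mul_apply, Matrix.mul_apply] at h1
    have key : ∀ x : D.Idx, matP D (D.rank + D.nroots) I x (colIdx D c) = if x = c then 1 else 0 := by
      intro x
      show b2z (I.testBit (_ * code D x + code D c)) = _
      rw [hI _ (code_lt D x) _ (code_lt D c)]
      by_cases hx : x = c
      · subst hx; simp [b2z]
      · rw [Bool.eq_false_iff.2 fun h => hx (code_injective D (nat_beq_iff.1 h))]; simp [b2z, hx]
    simpa [key] using h1
  · ext a; exact absurd (code_lt D a) (by omega)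

/-- the packed images differ inside the range -/
def chkDiff (D : ChevalleyDatum) (k A B : ℕ) : Bool :=
  !Nat.beq ((A ^^^ B) &&& (2 ^ (k * (D.rank + D.nroots)) - 1)) 0

theorem wordMat_ne_of_run (ht : chkTab D tab = true) (hk : 0 < k) {I : ℕ} {w w' : List ℕ}
    (hw : ∀ r ∈ w, r < D.nroots) (hw' : ∀ r ∈ w', r < D.nroots)
    (e : chkDiff D k (runP k tab w I) (runP k tab w' I) = true) :
    D.wordMat (ZMod 2) (ones w) ≠ D.wordMat (ZMod 2) (ones w') := by
  intro h
  have h1 := congrArg (fun A => A * matP D k I) h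
  simp only [run_spec ht hk w hw, run_spec ht hk w' hw'] at h1
  simp only [chkDiff, Bool.not_eq_true'] at e
  rw [← Bool.not_eq_true, nat_beq_iff] at e
  refine e (Nat.eq_of_testBit_eq fun p => ?_)
  rw [Nat.testBit_and, Nat.testBit_two_pow_sub_one, Nat.zero_testBit]
  by_cases hp : p < k * (D.rank + D.nroots)
  · have hd : p / k < D.rank + D.nroots := (Nat.div_lt_iff_lt_mul hk).2 (by rwa [mul_comm] at hp)
    obtain ⟨a, ha⟩ := exists_code D hd
    have h2 := b2z_inj _ _ (congrFun (congrFun h1 a) ⟨p % k, Nat.mod_lt _ hk⟩)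
    simp only [ha, Nat.div_add_mod] at h2
    simp [Nat.testBit_xor, hp, h2]
  · simp [hp]

end CfsgLib.Lie.TitsEval
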