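/-
Kernel checked identities in the twisted group of type F4 over two elements, with parities.
-/
import Cfsg.Agent.Lib.Lie.Twisted.Tits.Eval
import Cfsg.Agent.Lib.Lie.Twisted.Tits.Data
import Cfsg.Agent.Lib.Lie.Twisted.F4

set_option autoImplicit false

namespace CfsgLib.Lie.Tits

open Cfsg.Lie
open CfsgLib.Lie.Chev CfsgLib.Lie.TitsEval

/-- root word of a word of letters -/
def flat (w : List ℕ) : List ℕ := w.flatMap fun l => letW.getD l []

/-- parity of a word of letters -/
def par (w : List ℕ) : Bool := w.foldr (fun l b => letP.getD l false ^^ b) false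

/-- checked equality of words, with parity -/
def eqW (u v : List ℕ) : Bool :=
  (par u == par v) && Nat.beq (runP 52 tabF4 (flat u) idF4) (runP 52 tabF4 (flat v) idF4)

/-- lookup in a table of words -/
def lookW (T : List (ℕ × ℕ × List ℕ)) (x j : ℕ) : List ℕ :=
  ((T.find? fun e => Nat.beq e.1 x && Nat.beq e.2.1 j).map fun e => e.2.2).getD []

/-- a class splits off from the classes after it -/
def chkStep (c R : List ℕ) : Bool :=
  (c.all fun x => R.all fun j => eqW [x, j] (lookW conjTab x j ++ [x]) && (lookW conjTab x j).all fun l => R.contains l) &&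
  (c.all fun x => c.all fun y => eqW [x, y] (lookW mulTab x y) && Nat.ble (lookW mulTab x y).length 1 &&
    (lookW mulTab x y).all fun l => c.contains l) &&
  c.all fun x => c.any fun y => (lookW mulTab x y).isEmpty && (c.contains y)

/-- every class splits off -/
def chkChain : List (List ℕ) → Bool
  | [] => true
  | c :: L => chkStep c L.flatten && chkChain L

/-- the ordered products -/
def prods : List (List ℕ) → List (List ℕ)
  | [] => [[]]
  | c :: L => prods L ++ c.flatMap fun x => (prods L).map fun w => x :: w

/-- the sixteen Weyl words -/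
def stw (i : ℕ) : List ℕ := stW.getD i []

/-- the successor of a Weyl word -/
def tr (s i : ℕ) : ℕ := bif Nat.beq s 0 then (transTab.getD i (0, 0)).1 else (transTab.getD i (0, 0)).2

/-- the letters of the two simple classes -/
def simpleCls (s : ℕ) : List ℕ := (cls.getD s [])

/-- the letters of the complementary radical -/
def radCls (s : ℕ) : List ℕ := bif Nat.beq s 0 then cls.tail.flatten else cls1.tail.flatten

/-- positive image of a class letter under a Weyl word -/
def posImg (i s : ℕ) : List ℕ :=
  ((posTab.find? fun e => Nat.beq e.1 i && Nat.beq e.2.1 s).map fun e => e.2.2).getD []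

theorem tab_ok : chkTab chevF4 tabF4 = true := by decide +kernel

theorem id_ok : TitsEval.chkId chevF4 idF4 = true := by decide +kernel

theorem let_ok : (letW.all fun w => w.all fun r => Nat.blt r 48) = true := by decide +kernel

theorem chain_ok : chkChain cls = true := by decide +kernel

theorem chain1_ok : chkStep (cls1.headD []) cls1.tail.flatten = true := by decide +kernel

theorem perm_ok : cls.flatten = List.range 16 ∧ cls1.headD [] = simpleCls 1 ∧ cls.headD [] = simpleCls 0 ∧
    (cls1.flatten.all fun j => Nat.blt j 16) = true ∧ ((List.range 16).all fun j => cls1.flatten.contains j) = true := by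
  decide +kernel

theorem trans_ok : ((List.range 2).all fun s => (List.range 16).all fun i =>
    Nat.blt (tr s i) 16 && eqW ((16 + s) :: stw i) (stw (tr s i)) && Nat.beq (tr s (tr s i)) i) = true := by
  decide +kernel

theorem pos_ok : ((List.range 2).all fun s => (List.range 16).all fun i =>
    bif (posImg i s).isEmpty then
      Nat.beq (posImg (tr s i) s).length (simpleCls s).length
    else
      Nat.beq (posImg i s).length (simpleCls s).length && ((posImg i s).all fun l => Nat.blt l 16) &&
        ((simpleCls s).zip (posImg i s)).all fun p => eqW (p.1 :: stw i) (stw i ++ [p.2])) = true := by decide +kernel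

theorem nj_ok : ((List.range 2).all fun s => (radCls s).all fun j =>
    (njTab.any fun e => Nat.beq e.1 s && Nat.beq e.2.1 j && Nat.blt e.2.2 16 && eqW [16 + s, j] [e.2.2, 16 + s])) = true := by
  decide +kernel

theorem rk_ok : ((List.range 2).all fun s => (simpleCls s).all fun x =>
    (rkTab.any fun e => Nat.beq e.1 s && Nat.beq e.2.1 x && (simpleCls s).contains e.2.2.1 &&
      (simpleCls s).contains e.2.2.2 && eqW [16 + s, x, 16 + s] [e.2.2.1, 16 + s, e.2.2.2])) = true := by
  decide +kernel

theorem base_ok : ((List.range 16).all fun j => baseTab.any fun e => Nat.beq e.1 j && Nat.blt e.2.1 16 &&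
    Nat.blt e.2.2 4 && eqW (j :: stw e.2.1) (stw e.2.1 ++ [e.2.2])) = true := by decide +kernel

theorem neg_ok : (([18, 19, 20, 21] : List ℕ).all fun k => negTab.any fun e => Nat.beq e.1 k && Nat.blt e.2.1 2 &&
    Nat.blt e.2.2 4 && eqW [k] [16 + e.2.1, e.2.2, 16 + e.2.1]) = true := by decide +kernel

theorem gen_ok : (eqW [16] [0, 18, 0] && eqW [17] nbW && nbW.all fun l => ([1, 2, 3, 19, 20, 21] : List ℕ).contains l) =
    true := by decide +kernel

theorem comm_ok : (eqW [0, 8, 12] [11, 8, 12, 0] && eqW [0, 9] [13, 9, 0] &&
    eqW [17, 17] [] && eqW [16, 16] [] && eqW [1, 1] [2] && eqW [2, 2] []) = true := by decide +kernel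

theorem ne_ok : ((List.range 15).all fun i =>
    chkDiff chevF4 52 (runP 52 tabF4 (flat (stw (i + 1))) idF4) (runP 52 tabF4 (flat []) idF4)) = true := by
  decide +kernel

theorem odd_ok : ((prods cls).all fun w => !par w ||
    chkDiff chevF4 1 (runP 1 tabF4 (flat (w ++ w)) 64) (runP 1 tabF4 (flat []) 64)) = true := by decide +kernel

end CfsgLib.Lie.Tits
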