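/-
Bruhat cells of the twisted group of type F4 over two elements, from the checked identities.
-/
import Cfsg.Agent.Lib.Lie.Twisted.Tits.Checks


import Mathlib.GroupTheory.Solvable

set_option autoImplicit false

namespace CfsgLib.Lie.Tits

open Cfsg.Lie
open CfsgLib.Lie.Chev CfsgLib.Lie.TitsEval CfsgLib.Lie.Chev.TwGroups


/-- an interpretation of the letters respecting the checked equalities -/
structure Model (H : Type*) [Group H] where
  L : ℕ → H
  eq_of : ∀ u v : List ℕ, eqW u v = true → (u.map L).prod = (v.map L).prod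

namespace Model

variable {HP : Type*} [Group HP] (M : Model HP)

/-- the value of a word of letters -/
def ev (w : List ℕ) : HP := (w.map M.L).prod

theorem ev_append (u v : List ℕ) : M.ev (u ++ v) = M.ev u * M.ev v := by simp [ev]

theorem ev_cons (a : ℕ) (v : List ℕ) : M.ev (a :: v) = M.ev [a] * M.ev v := M.ev_append [a] v

theorem ev_nil : M.ev [] = 1 := rfl

theorem ev_one (a : ℕ) : M.ev [a] = M.L a := by simp [ev]

theorem ev_eq {u v : List ℕ} (h : eqW u v = true) : M.ev u = M.ev v := M.eq_of u v h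

/-- the subgroup generated by some letters -/
noncomputable def clos (R : List ℕ) : Subgroup HP := Subgroup.closure (M.L '' {j | j ∈ R})

theorem let_mem {R : List ℕ} {j : ℕ} (h : j ∈ R) : M.ev [j] ∈ M.clos R := by
  rw [M.ev_one]; exact Subgroup.subset_closure ⟨j, h, rfl⟩

theorem ev_mem {R w : List ℕ} (h : ∀ l ∈ w, l ∈ R) : M.ev w ∈ M.clos R := by
  induction w with
  | nil => exact one_mem _
  | cons a w ih =>
    rw [M.ev_cons]
    exact mul_mem (M.let_mem (h a List.mem_cons_self)) (ih fun l hl => h l (List.mem_cons_of_mem _ hl))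

theorem clos_le {R : List ℕ} {S : Subgroup HP} (h : ∀ j ∈ R, M.ev [j] ∈ S) : M.clos R ≤ S :=
  (Subgroup.closure_le _).2 (by rintro _ ⟨j, hj, rfl⟩; rw [← M.ev_one]; exact h j hj)

theorem clos_mono {R S : List ℕ} (h : ∀ j ∈ R, j ∈ S) : M.clos R ≤ M.clos S := M.clos_le fun j hj => M.let_mem (h j hj)

theorem chkStep_spec {c R : List ℕ} (h : chkStep c R = true) :
    (∀ x ∈ c, ∀ g ∈ M.clos R, M.ev [x] * g * (M.ev [x])⁻¹ ∈ M.clos R) ∧
      (∀ x ∈ c, ∀ y ∈ c, M.ev [x] * M.ev [y] = 1 ∨ ∃ z ∈ c, M.ev [x] * M.ev [y] = M.ev [z]) ∧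
      (∀ x ∈ c, ∃ y ∈ c, M.ev [x] * M.ev [y] = 1) := by
  simp only [chkStep, Bool.and_eq_true, List.all_eq_true, List.any_eq_true, List.contains_iff_mem, nat_ble_iff] at h
  obtain ⟨⟨h1, h2⟩, h3⟩ := h
  refine ⟨fun x hx g hg => ?_, fun x hx y hy => ?_, fun x hx => ?_⟩
  · refine (show M.clos R ≤ (M.clos R).comap (MulAut.conj (M.ev [x])).toMonoidHom from M.clos_le fun j hj => ?_) hg
    obtain ⟨e, hw⟩ := h1 x hx j hj
    show M.ev [x] * M.ev [j] * (M.ev [x])⁻¹ ∈ M.clos R
    rw [show M.ev [x] * M.ev [j] = M.ev [x, j] from (M.ev_append [x] [j]).symm, M.ev_eq e, M.ev_append, mul_inv_cancel_right]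
    exact M.ev_mem hw
  · obtain ⟨⟨e, hl⟩, hc⟩ := h2 x hx y hy
    rw [show M.ev [x] * M.ev [y] = M.ev [x, y] from (M.ev_append [x] [y]).symm, M.ev_eq e]
    match hw : lookW mulTab x y, hl with
    | [], _ => exact Or.inl rfl
    | [z], _ => exact Or.inr ⟨z, hc z (by rw [hw]; exact List.mem_cons_self), rfl⟩
    | _ :: _ :: _, h => simp at h
  · obtain ⟨y, hy, he, hyc⟩ := h3 x hx
    refine ⟨y, hy, ?_⟩
    obtain ⟨⟨e, -⟩, -⟩ := h2 x hx y hy
    rw [show M.ev [x] * M.ev [y] = M.ev [x, y] from (M.ev_append [x] [y]).symm, M.ev_eq e, List.isEmpty_iff.1 he]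
    rfl

/-- a class splits off -/
theorem mem_split {c R : List ℕ} (h : chkStep c R = true) {g : HP} (hg : g ∈ M.clos (c ++ R)) :
    g ∈ M.clos R ∨ ∃ x ∈ c, ∃ t ∈ M.clos R, g = M.ev [x] * t := by
  obtain ⟨hconj, hmul, hinv⟩ := M.chkStep_spec h
  have step : ∀ j ∈ c ++ R, ∀ g, (g ∈ M.clos R ∨ ∃ x ∈ c, ∃ t ∈ M.clos R, g = M.ev [x] * t) →
      (M.ev [j] * g ∈ M.clos R ∨ ∃ x ∈ c, ∃ t ∈ M.clos R, M.ev [j] * g = M.ev [x] * t) := by
    intro j hj g hg
    rcases List.mem_append.1 hj with hjc | hjR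
    · rcases hg with hg | ⟨x, hx, t, ht, rfl⟩
      · exact Or.inr ⟨j, hjc, g, hg, rfl⟩
      · rcases hmul j hjc x hx with e | ⟨z, hz, e⟩
        · left; rwa [← mul_assoc, e, one_mul]
        · exact Or.inr ⟨z, hz, t, ht, by rw [← mul_assoc, e]⟩
    · rcases hg with hg | ⟨x, hx, t, ht, rfl⟩
      · exact Or.inl (mul_mem (M.let_mem hjR) hg)
      · obtain ⟨y, hy, e⟩ := hinv x hx
        refine Or.inr ⟨x, hx, (M.ev [x])⁻¹ * M.ev [j] * M.ev [x] * t, mul_mem ?_ ht, by group⟩
        have h1 := hconj y hy _ (M.let_mem (R := R) hjR)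
        rwa [eq_inv_of_mul_eq_one_right e, inv_inv] at h1
  induction hg using Subgroup.closure_induction_left with
  | one => exact Or.inl (one_mem _)
  | mul_left a ha b _ ih =>
    obtain ⟨j, hj, rfl⟩ := ha
    rw [← M.ev_one]
    exact step j hj b ih
  | inv_mul_cancel a ha b _ ih =>
    obtain ⟨j, hj, rfl⟩ := ha
    rw [← M.ev_one]
    rcases List.mem_append.1 hj with hjc | hjR
    · obtain ⟨y, hy, e⟩ := hinv j hjc
      rw [inv_eq_of_mul_eq_one_right e]
      exact step y (List.mem_append_left _ hy) b ih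
    · rcases ih with hg | ⟨x, hx, t, ht, rfl⟩
      · exact Or.inl (mul_mem (inv_mem (M.let_mem hjR)) hg)
      · obtain ⟨y, hy, e⟩ := hinv x hx
        refine Or.inr ⟨x, hx, (M.ev [x])⁻¹ * (M.ev [j])⁻¹ * M.ev [x] * t, mul_mem ?_ ht, by group⟩
        have h1 := hconj y hy _ (inv_mem (M.let_mem (R := R) hjR))
        rwa [eq_inv_of_mul_eq_one_right e, inv_inv] at h1

theorem mem_prods : ∀ (L : List (List ℕ)), chkChain L = true → ∀ g ∈ M.clos L.flatten, ∃ w ∈ prods L, g = M.ev w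
  | [], _, g, hg => by
    refine ⟨[], by simp [prods], ?_⟩
    simpa [clos, ev] using hg
  | c :: L, h, g, hg => by
    simp only [chkChain, Bool.and_eq_true] at h
    rw [List.flatten_cons] at hg
    rcases M.mem_split h.1 hg with h1 | ⟨x, hx, t, ht, rfl⟩
    · obtain ⟨w, hw, e⟩ := mem_prods L h.2 g h1
      exact ⟨w, List.mem_append_left _ hw, e⟩
    · obtain ⟨w, hw, rfl⟩ := mem_prods L h.2 t ht
      exact ⟨x :: w, List.mem_append_right _ (List.mem_flatMap.2 ⟨x, hx, List.mem_map.2 ⟨w, hw, rfl⟩⟩),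
        (M.ev_cons x w).symm⟩

/-- the positive unipotent subgroup with parities -/
noncomputable def Bsub : Subgroup HP := M.clos (List.range 16)

theorem mem_Bsub_of_lt {j : ℕ} (h : j < 16) : M.ev [j] ∈ M.Bsub := M.let_mem (List.mem_range.2 h)

theorem simpleCls_lt {s : ℕ} (hs : s < 2) : ∀ x ∈ simpleCls s, x < 16 := by
  have h : ((List.range 2).all fun s => (simpleCls s).all fun x => Nat.blt x 16) = true := by decide +kernel
  simp only [List.all_eq_true, List.mem_range, nat_blt_iff] at h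
  exact h s hs

theorem radCls_lt {s : ℕ} (hs : s < 2) : ∀ x ∈ radCls s, x < 16 := by
  have h : ((List.range 2).all fun s => (radCls s).all fun x => Nat.blt x 16) = true := by decide +kernel
  simp only [List.all_eq_true, List.mem_range, nat_blt_iff] at h
  exact h s hs

theorem split_ok {s : ℕ} (hs : s < 2) :
    chkStep (simpleCls s) (radCls s) = true ∧ ∀ j < 16, j ∈ simpleCls s ++ radCls s := by
  obtain ⟨p1, p2, p3, p4, p5⟩ := perm_ok
  interval_cases s
  · refine ⟨?_, fun j hj => ?_⟩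
    · have h := chain_ok
      rw [show cls = cls.headD [] :: cls.tail from rfl, chkChain, Bool.and_eq_true, p3] at h
      exact h.1
    · have e : simpleCls 0 ++ radCls 0 = cls.flatten := rfl
      rw [e, p1]; exact List.mem_range.2 hj
  · refine ⟨?_, fun j hj => ?_⟩
    · have h := chain1_ok
      rwa [p2] at h
    · have e : simpleCls 1 ++ radCls 1 = cls1.flatten := rfl
      simp only [List.all_eq_true, List.mem_range, List.contains_iff_mem] at p5
      rw [e]; exact p5 j hj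

/-- a unipotent element splits off a simple class on the right -/
theorem Bsub_split {s : ℕ} (hs : s < 2) {b : HP} (hb : b ∈ M.Bsub) :
    b ∈ M.clos (radCls s) ∨ ∃ r ∈ M.clos (radCls s), ∃ x ∈ simpleCls s, b = r * M.ev [x] := by
  obtain ⟨h1, h2⟩ := split_ok hs
  have hb' : b⁻¹ ∈ M.clos (simpleCls s ++ radCls s) :=
    M.clos_mono (fun j hj => h2 j (List.mem_range.1 hj)) (inv_mem hb)
  rcases M.mem_split h1 hb' with h | ⟨x, hx, t, ht, e⟩
  · exact Or.inl (by simpa using inv_mem h)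
  · obtain ⟨y, hy, e'⟩ := (M.chkStep_spec h1).2.2 x hx
    refine Or.inr ⟨t⁻¹, inv_mem ht, y, hy, ?_⟩
    rw [eq_inv_of_mul_eq_one_right e', ← mul_inv_rev, ← e, inv_inv]

theorem nW_conj_rad {s : ℕ} (hs : s < 2) {r : HP} (hr : r ∈ M.clos (radCls s)) :
    M.ev [16 + s] * r * (M.ev [16 + s])⁻¹ ∈ M.Bsub := by
  refine (show M.clos (radCls s) ≤ M.Bsub.comap (MulAut.conj (M.ev [16 + s])).toMonoidHom from M.clos_le fun j hj => ?_) hr
  have h := nj_ok
  simp only [List.all_eq_true, List.mem_range, List.any_eq_true, Bool.and_eq_true, nat_beq_iff, nat_blt_iff] at h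
  obtain ⟨e, -, ⟨⟨-, -⟩, h3⟩, h4⟩ := h s hs j hj
  show M.ev [16 + s] * M.ev [j] * (M.ev [16 + s])⁻¹ ∈ M.Bsub
  rw [show M.ev [16 + s] * M.ev [j] = M.ev [16 + s, j] from (M.ev_append [16 + s] [j]).symm, M.ev_eq h4,
    M.ev_cons, mul_inv_cancel_right]
  exact M.mem_Bsub_of_lt h3

theorem trans_spec {s i : ℕ} (hs : s < 2) (hi : i < 16) :
    tr s i < 16 ∧ M.ev [16 + s] * M.ev (stw i) = M.ev (stw (tr s i)) ∧ tr s (tr s i) = i := by
  have h := trans_ok
  simp only [List.all_eq_true, List.mem_range, Bool.and_eq_true, nat_beq_iff, nat_blt_iff] at h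
  obtain ⟨⟨h1, h2⟩, h3⟩ := h s hs i hi
  exact ⟨h1, by rw [← M.ev_cons]; exact M.ev_eq h2, h3⟩

theorem exists_zip {α β : Type*} : ∀ {l : List α} {l' : List β}, l'.length = l.length → ∀ x ∈ l, ∃ y, (x, y) ∈ l.zip l'
  | [], _, _, x, hx => absurd hx List.not_mem_nil
  | a :: l, [], h, _, _ => by simp at h
  | a :: l, b :: l', h, x, hx => by
    rcases List.mem_cons.1 hx with rfl | hx
    · exact ⟨b, by simp⟩
    · obtain ⟨y, hy⟩ := exists_zip (l := l) (l' := l') (by simpa using h) x hx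
      exact ⟨y, by simp [hy]⟩

/-- a class letter passes a Weyl word, or passes the neighbouring one -/
theorem pos_spec {s i : ℕ} (hs : s < 2) (hi : i < 16) :
    (∀ x ∈ simpleCls s, ∃ y < 16, M.ev [x] * M.ev (stw i) = M.ev (stw i) * M.ev [y]) ∨
      ∀ x ∈ simpleCls s, ∃ y < 16, M.ev [x] * M.ev (stw (tr s i)) = M.ev (stw (tr s i)) * M.ev [y] := by
  have h := pos_ok
  simp only [List.all_eq_true, List.mem_range] at h
  have use : ∀ k < 16, (posImg k s).isEmpty = false →
      ∀ x ∈ simpleCls s, ∃ y < 16, M.ev [x] * M.ev (stw k) = M.ev (stw k) * M.ev [y] := by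
    intro k hk hne x hx
    have h1 := h s hs k hk
    simp only [hne, cond_false, Bool.and_eq_true, List.all_eq_true, nat_beq_iff, nat_blt_iff] at h1
    obtain ⟨⟨hlen, hlt⟩, hzip⟩ := h1
    obtain ⟨y, hy⟩ := exists_zip hlen x hx
    exact ⟨y, hlt y (List.of_mem_zip hy).2, by rw [← M.ev_cons, ← M.ev_append]; exact M.ev_eq (hzip (x, y) hy)⟩
  cases he : (posImg i s).isEmpty with
  | false => exact Or.inl (use i hi he)
  | true =>
    refine Or.inr (use _ (M.trans_spec hs hi).1 ?_)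
    have h1 := h s hs i hi
    simp only [he, cond_true, nat_beq_iff] at h1
    cases hp : (posImg (tr s i) s) with
    | nil =>
      rw [hp] at h1
      have h2 : 0 < (simpleCls s).length := by interval_cases s <;> decide +kernel
      simp at h1; omega
    | cons a l => rfl

theorem rk_spec {s : ℕ} (hs : s < 2) {x : ℕ} (hx : x ∈ simpleCls s) :
    ∃ y ∈ simpleCls s, ∃ z ∈ simpleCls s,
      M.ev [16 + s] * M.ev [x] * M.ev [16 + s] = M.ev [y] * M.ev [16 + s] * M.ev [z] := by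
  have h := rk_ok
  simp only [List.all_eq_true, List.mem_range, List.any_eq_true, Bool.and_eq_true, List.contains_iff_mem] at h
  obtain ⟨e, -, ⟨⟨⟨-, -⟩, h1⟩, h2⟩, h3⟩ := h s hs x hx
  refine ⟨_, h1, _, h2, ?_⟩
  rw [← M.ev_append, ← M.ev_append, ← M.ev_append, ← M.ev_append]
  exact M.ev_eq h3

theorem nW_sq {s : ℕ} (hs : s < 2) : M.ev [16 + s] * M.ev [16 + s] = 1 := by
  have h := comm_ok
  simp only [Bool.and_eq_true] at h
  rw [← M.ev_append]
  interval_cases s
  · exact M.ev_eq h.1.1.2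
  · exact M.ev_eq h.1.1.1.2

/-- the Bruhat cells with parities -/
def Cell (g : HP) : Prop := ∃ i < 16, ∃ b ∈ M.Bsub, ∃ b' ∈ M.Bsub, g = b * M.ev (stw i) * b'

theorem Cell_left_B {g b : HP} (hg : M.Cell g) (hb : b ∈ M.Bsub) : M.Cell (b * g) := by
  obtain ⟨i, hi, c, hc, c', hc', rfl⟩ := hg
  exact ⟨i, hi, b * c, mul_mem hb hc, c', hc', by group⟩

theorem Cell_left_n {g : HP} {s : ℕ} (hs : s < 2) (hg : M.Cell g) : M.Cell (M.ev [16 + s] * g) := by
  obtain ⟨i, hi, c, hc, c', hc', rfl⟩ := hg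
  obtain ⟨hk, he, hk'⟩ := M.trans_spec hs hi
  rcases M.Bsub_split hs hc with hr | ⟨r, hr, x, hx, rfl⟩
  · refine ⟨_, hk, _, M.nW_conj_rad hs hr, c', hc', ?_⟩
    rw [← he]; group
  have hr' := M.nW_conj_rad hs hr
  rcases M.pos_spec hs hi with h | h
  · obtain ⟨y, hy, e⟩ := h x hx
    refine ⟨_, hk, _, hr', M.ev [y] * c', mul_mem (M.mem_Bsub_of_lt hy) hc', ?_⟩
    rw [← he, show M.ev [16 + s] * (r * M.ev [x] * M.ev (stw i) * c') =
      M.ev [16 + s] * r * (M.ev [16 + s])⁻¹ * (M.ev [16 + s] * (M.ev [x] * M.ev (stw i))) * c' by group, e]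
    group
  · obtain ⟨y, hy, z, hz, e⟩ := M.rk_spec hs hx
    obtain ⟨z', hz', e2⟩ := h z hz
    obtain ⟨-, he', -⟩ := M.trans_spec hs hk
    rw [hk'] at he'
    refine ⟨i, hi, _, mul_mem hr' (M.mem_Bsub_of_lt (simpleCls_lt hs y hy)), M.ev [z'] * c',
      mul_mem (M.mem_Bsub_of_lt hz') hc', ?_⟩
    calc M.ev [16 + s] * (r * M.ev [x] * M.ev (stw i) * c')
        = M.ev [16 + s] * r * (M.ev [16 + s])⁻¹ * (M.ev [16 + s] * M.ev [x] * M.ev (stw i)) * c' := by group
      _ = M.ev [16 + s] * r * (M.ev [16 + s])⁻¹ *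
            (M.ev [16 + s] * M.ev [x] * M.ev [16 + s] * M.ev (stw (tr s i))) * c' := by rw [← he']; group
      _ = M.ev [16 + s] * r * (M.ev [16 + s])⁻¹ * (M.ev [y] * M.ev [16 + s] * (M.ev [z] * M.ev (stw (tr s i)))) * c' := by
            rw [e]; group
      _ = M.ev [16 + s] * r * (M.ev [16 + s])⁻¹ * (M.ev [y] * (M.ev [16 + s] * M.ev (stw (tr s i))) * M.ev [z']) * c' := by
            rw [e2]; group
      _ = M.ev [16 + s] * r * (M.ev [16 + s])⁻¹ * M.ev [y] * M.ev (stw i) * (M.ev [z'] * c') := by rw [he']; group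

theorem cell_one : M.Cell 1 :=
  ⟨0, by norm_num, 1, one_mem _, 1, one_mem _, by rw [show stw 0 = [] from rfl, M.ev_nil]; group⟩

/-- the group with parities -/
noncomputable def Gam : Subgroup HP := M.clos (List.range 18)

theorem cell_of_mem {g : HP} (hg : g ∈ M.Gam) : M.Cell g := by
  have step : ∀ j < 18, ∀ g, M.Cell g → M.Cell (M.ev [j] * g) := fun j hj g h => by
    by_cases h16 : j < 16
    · exact M.Cell_left_B h (M.mem_Bsub_of_lt h16)
    · obtain ⟨s, rfl⟩ : ∃ s, j = 16 + s := ⟨j - 16, by omega⟩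
      exact M.Cell_left_n (by omega) h
  induction hg using Subgroup.closure_induction_left with
  | one => exact M.cell_one
  | mul_left a ha b _ ih =>
    obtain ⟨j, hj, rfl⟩ := ha
    rw [← M.ev_one]
    exact step j (List.mem_range.1 hj) b ih
  | inv_mul_cancel a ha b _ ih =>
    obtain ⟨j, hj, rfl⟩ := ha
    rw [← M.ev_one]
    have hj' := List.mem_range.1 hj
    by_cases h16 : j < 16
    · exact M.Cell_left_B ih (inv_mem (M.mem_Bsub_of_lt h16))
    · obtain ⟨s, rfl⟩ : ∃ s, j = 16 + s := ⟨j - 16, by omega⟩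
      rw [inv_eq_of_mul_eq_one_right (M.nW_sq (show s < 2 by omega))]
      exact step _ hj' b ih

end Model

end CfsgLib.Lie.Tits
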