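/-
Normal subgroups above and below the Borel subgroup, and the derived series, in a model of the checked identities.
-/
import Cfsg.Agent.Lib.Lie.Twisted.Tits.Model
import Mathlib.GroupTheory.Solvable
import Mathlib.GroupTheory.QuotientGroup.Basic
import Mathlib.GroupTheory.Index

set_option autoImplicit false

namespace CfsgLib.Lie.Tits

open CfsgLib.Lie.Chev CfsgLib.Lie.TitsEval
open scoped commutatorElement

theorem desc_ok : ((List.range 15).all fun i => (List.range 2).any fun s => (posImg (i + 1) s).isEmpty) = true := by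
  decide +kernel

theorem alt_ok : ((List.range 2).all fun t => (posImg (tr t (tr (1 - t) (tr t 0))) t).isEmpty) = true := by
  decide +kernel

theorem flip_ok : ((List.range 2).all fun t => (simpleCls t).all fun x => njTab.any fun e =>
    Nat.beq e.1 (1 - t) && Nat.beq e.2.1 x && (radCls t).contains e.2.2 &&
      eqW [16 + (1 - t), x] [e.2.2, 16 + (1 - t)]) = true := by decide +kernel

theorem base_11_13 : ((List.range 16).any fun i => eqW (11 :: stw i) (stw i ++ [0])) = true ∧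
    ((List.range 16).any fun i => eqW (13 :: stw i) (stw i ++ [2])) = true := by decide +kernel

theorem cyc_ok : (eqW [3] [2, 1] && ([1, 3] : List ℕ).any (fun b => eqW [12, 16, 17, 16] [16, 17, 16, b]) &&
    ([12, 14] : List ℕ).any (fun j => eqW [17, 12] [j, 17] &&
      ([1, 3] : List ℕ).any fun b => eqW [j, 16, 17, 16] [16, 17, 16, b])) = true := by decide +kernel

theorem stw_letters : ((List.range 16).all fun i => (stw i).all fun l => Nat.beq l 16 || Nat.beq l 17) = true := by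
  decide +kernel

namespace Model

variable {G : Type*} [Group G] (M : Model G)

theorem stw_mem {i : ℕ} (hi : i < 16) {S : Subgroup G} (h16 : M.ev [16] ∈ S) (h17 : M.ev [17] ∈ S) :
    M.ev (stw i) ∈ S := by
  have h := stw_letters
  simp only [List.all_eq_true, List.mem_range, Bool.or_eq_true, nat_beq_iff] at h
  have key : ∀ w : List ℕ, (∀ l ∈ w, l = 16 ∨ l = 17) → M.ev w ∈ S := by
    intro w
    induction w with
    | nil => exact fun _ => one_mem _
    | cons a w ih =>
      intro hw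
      rw [M.ev_cons]
      refine mul_mem ?_ (ih fun l hl => hw l (List.mem_cons_of_mem _ hl))
      rcases hw a List.mem_cons_self with rfl | rfl <;> assumption
  exact key _ (h i hi)

theorem nW_mem_of_desc {S : Subgroup G} (hB : M.Bsub ≤ S) {s i : ℕ} (hs : s < 2) (hi : i < 16)
    (hd : (posImg i s).isEmpty = true) (hS : M.ev (stw i) ∈ S) : M.ev [16 + s] ∈ S := by
  obtain ⟨hk, he, hk'⟩ := trans_spec M hs hi
  obtain ⟨hj, hje, -⟩ := trans_spec M hs hk
  rw [hk'] at hje
  have hne : (posImg (tr s i) s).isEmpty = false := by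
    have h := pos_ok
    simp only [List.all_eq_true, List.mem_range] at h
    have h1 := h s hs i hi
    simp only [hd, cond_true, nat_beq_iff] at h1
    cases hp : posImg (tr s i) s with
    | nil =>
      rw [hp] at h1
      have h2 : 0 < (simpleCls s).length := by interval_cases s <;> decide +kernel
      simp at h1; omega
    | cons a l => rfl
  obtain ⟨x, hx⟩ : ∃ x, x ∈ simpleCls s := List.exists_mem_of_ne_nil _ (by interval_cases s <;> decide +kernel)
  have hp := pos_ok
  simp only [List.all_eq_true, List.mem_range] at hp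
  have h1 := hp s hs _ hk
  simp only [hne, cond_false, Bool.and_eq_true, List.all_eq_true, nat_beq_iff, nat_blt_iff] at h1
  obtain ⟨⟨hlen, hlt⟩, hzip⟩ := h1
  obtain ⟨y, hy⟩ := exists_zip hlen x hx
  have e : M.ev [x] * M.ev (stw (tr s i)) = M.ev (stw (tr s i)) * M.ev [y] := by
    rw [← M.ev_cons, ← M.ev_append]; exact M.ev_eq (hzip (x, y) hy)
  obtain ⟨a, ha, b, hb, hr⟩ := M.rk_spec hs hx
  have hsq := M.nW_sq hs
  have key : M.ev (stw i) * M.ev [y] * (M.ev (stw i))⁻¹ = M.ev [16 + s] * M.ev [x] * M.ev [16 + s] := by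
    rw [← hje, show M.ev [16 + s] * M.ev (stw (tr s i)) * M.ev [y] * (M.ev [16 + s] * M.ev (stw (tr s i)))⁻¹ =
      M.ev [16 + s] * (M.ev (stw (tr s i)) * M.ev [y] * (M.ev (stw (tr s i)))⁻¹) * (M.ev [16 + s])⁻¹ by group,
      ← e, mul_inv_cancel_right, inv_eq_of_mul_eq_one_right hsq]
  have hmem : M.ev [a] * M.ev [16 + s] * M.ev [b] ∈ S := by
    rw [← hr, ← key]
    exact mul_mem (mul_mem hS (hB (M.mem_Bsub_of_lt (hlt y (List.of_mem_zip hy).2)))) (inv_mem hS)
  have ha' := hB (M.mem_Bsub_of_lt (simpleCls_lt hs a ha))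
  have hb' := hB (M.mem_Bsub_of_lt (simpleCls_lt hs b hb))
  simpa [mul_assoc] using mul_mem (mul_mem (inv_mem ha') hmem) (inv_mem hb')

theorem nW_mem_of_other (N : Subgroup G) [N.Normal] {t : ℕ} (ht : t < 2)
    (h : M.ev [16 + (1 - t)] ∈ N ⊔ M.Bsub) : M.ev [16 + t] ∈ N ⊔ M.Bsub := by
  have hs : 1 - t < 2 := by omega
  obtain ⟨m, hm, b, hb, e⟩ := Subgroup.mem_sup_of_normal_left.1 h
  have hm' : M.ev [16 + t] * m * M.ev [16 + t] ∈ N := by
    have := (inferInstance : N.Normal).conj_mem m hm (M.ev [16 + t])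
    rwa [inv_eq_of_mul_eq_one_right (M.nW_sq ht)] at this
  have em : m = M.ev [16 + (1 - t)] * b⁻¹ := eq_mul_inv_iff_mul_eq.2 e
  obtain ⟨h1, h2⟩ := split_ok ht
  have hb1 : b⁻¹ ∈ M.clos (simpleCls t ++ radCls t) :=
    M.clos_mono (fun j hj => h2 j (List.mem_range.1 hj)) (inv_mem hb)
  have hn : M.ev [16 + t] * M.ev [16 + (1 - t)] * M.ev [16 + t] ∈ N ⊔ M.Bsub := by
    have hsq := inv_eq_of_mul_eq_one_right (M.nW_sq ht)
    have hrad : ∀ r ∈ M.clos (radCls t), M.ev [16 + t] * r * M.ev [16 + t] ∈ M.Bsub := fun r hr => by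
      have := M.nW_conj_rad ht hr
      rwa [hsq] at this
    rcases M.mem_split h1 hb1 with hr | ⟨x, hx, r, hr, er⟩
    · have e1 : M.ev [16 + t] * m * M.ev [16 + t] =
          M.ev [16 + t] * M.ev [16 + (1 - t)] * M.ev [16 + t] * (M.ev [16 + t] * b⁻¹ * M.ev [16 + t]) := by
        rw [em]
        conv_rhs => rw [show M.ev [16 + t] * M.ev [16 + (1 - t)] * M.ev [16 + t] *
          (M.ev [16 + t] * b⁻¹ * M.ev [16 + t]) = M.ev [16 + t] * M.ev [16 + (1 - t)] *
          (M.ev [16 + t] * M.ev [16 + t]) * b⁻¹ * M.ev [16 + t] by group, M.nW_sq ht, mul_one]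
        group
      have := mul_mem (Subgroup.mem_sup_left (T := M.Bsub) hm') (Subgroup.mem_sup_right (S := N) (inv_mem (hrad _ hr)))
      rwa [e1, mul_inv_cancel_right] at this
    · have hf := flip_ok
      simp only [List.all_eq_true, List.mem_range, List.any_eq_true, Bool.and_eq_true, List.contains_iff_mem] at hf
      obtain ⟨q, -, ⟨⟨-, -⟩, hq⟩, hqe⟩ := hf t ht x hx
      have ex : M.ev [16 + (1 - t)] * M.ev [x] = M.ev [q.2.2] * M.ev [16 + (1 - t)] := by
        rw [← M.ev_append, ← M.ev_append]; exact M.ev_eq hqe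
      have e1 : M.ev [16 + t] * m * M.ev [16 + t] =
          (M.ev [16 + t] * M.ev [q.2.2] * M.ev [16 + t]) *
            (M.ev [16 + t] * M.ev [16 + (1 - t)] * M.ev [16 + t]) * (M.ev [16 + t] * r * M.ev [16 + t]) := by
        calc M.ev [16 + t] * m * M.ev [16 + t]
            = M.ev [16 + t] * (M.ev [16 + (1 - t)] * M.ev [x]) * r * M.ev [16 + t] := by rw [em, er]; group
          _ = M.ev [16 + t] * M.ev [q.2.2] * (M.ev [16 + t] * M.ev [16 + t]) * M.ev [16 + (1 - t)] *
                (M.ev [16 + t] * M.ev [16 + t]) * r * M.ev [16 + t] := by rw [ex, M.nW_sq ht]; group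
          _ = _ := by group
      have := mul_mem (mul_mem (Subgroup.mem_sup_right (S := N) (inv_mem (hrad _ (M.let_mem hq))))
        (Subgroup.mem_sup_left (T := M.Bsub) hm')) (Subgroup.mem_sup_right (S := N) (inv_mem (hrad _ hr)))
      rw [e1] at this
      simpa [mul_assoc] using this
  obtain ⟨k1, e1, -⟩ := trans_spec M ht (show (0 : ℕ) < 16 by norm_num)
  obtain ⟨k2, e2, -⟩ := trans_spec M hs k1
  obtain ⟨k3, e3, -⟩ := trans_spec M ht k2
  rw [show stw 0 = [] from rfl, M.ev_nil, mul_one] at e1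
  rw [← e1] at e2
  rw [← e2, ← mul_assoc] at e3
  have ha := alt_ok
  simp only [List.all_eq_true, List.mem_range] at ha
  exact M.nW_mem_of_desc le_sup_right ht k3 (ha t ht) (e3 ▸ hn)

/-- a normal subgroup outside the Borel subgroup generates the group with it -/
theorem normal_sup_B (htop : M.Gam = ⊤) (N : Subgroup G) [N.Normal] (hN : ¬ N ≤ M.Bsub) : N ⊔ M.Bsub = ⊤ := by
  obtain ⟨g, hg, hgB⟩ := SetLike.not_le_iff_exists.1 hN
  obtain ⟨i, hi, b, hb, b', hb', rfl⟩ := M.cell_of_mem (show g ∈ M.Gam from htop ▸ Subgroup.mem_top g)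
  have hS : M.ev (stw i) ∈ N ⊔ M.Bsub := by
    have := mul_mem (mul_mem (Subgroup.mem_sup_right (S := N) (inv_mem hb)) (Subgroup.mem_sup_left (T := M.Bsub) hg))
      (Subgroup.mem_sup_right (S := N) (inv_mem hb'))
    simpa [mul_assoc] using this
  obtain ⟨i, rfl⟩ : ∃ k, i = k + 1 := by
    rcases i with _ | k
    · refine absurd ?_ hgB
      rw [show stw 0 = [] from rfl, M.ev_nil, mul_one]
      exact mul_mem hb hb'
    · exact ⟨k, rfl⟩
  have hd := desc_ok
  simp only [List.all_eq_true, List.any_eq_true, List.mem_range] at hd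
  obtain ⟨s, hs, hd⟩ := hd i (by omega)
  have h1 := M.nW_mem_of_desc le_sup_right hs hi hd hS
  have h2 : M.ev [16 + (1 - s)] ∈ N ⊔ M.Bsub :=
    M.nW_mem_of_other N (by omega) (by rwa [show 1 - (1 - s) = s by omega])
  rw [eq_top_iff, ← htop]
  refine M.clos_le fun j hj => ?_
  have hj' := List.mem_range.1 hj
  by_cases h16 : j < 16
  · exact Subgroup.mem_sup_right (M.mem_Bsub_of_lt h16)
  · obtain ⟨u, rfl⟩ : ∃ u, j = 16 + u := ⟨j - 16, by omega⟩
    rcases (by omega : u = s ∨ u = 1 - s) with rfl | rfl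
    · exact h1
    · exact h2

theorem derived_spec (htop : M.Gam = ⊤) (T : Subgroup G) [T.Normal] (h0 : M.ev [0] ∈ T) (h9 : M.ev [9] ∈ T)
    (h812 : M.ev [8, 12] ∈ T) : ∀ g : G, g ∈ ⁅T, T⁆ ∨ g * M.ev [1] ∈ ⁅T, T⁆ := by
  have hc := comm_ok
  simp only [Bool.and_eq_true] at hc
  obtain ⟨⟨⟨⟨⟨c11, c13⟩, -⟩, -⟩, c1⟩, c2⟩ := hc
  have hconj : ∀ {x y : G} {i : ℕ}, x ∈ ⁅T, T⁆ → x * M.ev (stw i) = M.ev (stw i) * y → y ∈ ⁅T, T⁆ := by
    intro x y i hx e
    have := (inferInstance : (⁅T, T⁆ : Subgroup G).Normal).conj_mem x hx (M.ev (stw i))⁻¹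
    rwa [inv_inv, mul_assoc, e, inv_mul_cancel_left] at this
  obtain ⟨b11, b13⟩ := base_11_13
  simp only [List.any_eq_true, List.mem_range] at b11 b13
  have m0 : M.ev [0] ∈ ⁅T, T⁆ := by
    obtain ⟨i, hi, e⟩ := b11
    refine hconj (i := i) (x := M.ev [11]) ?_ (by rw [← M.ev_cons, ← M.ev_append]; exact M.ev_eq e)
    have : M.ev [11] = ⁅M.ev [0], M.ev [8, 12]⁆ := by
      have e2 := M.ev_eq c11
      rw [M.ev_cons 0 [8, 12], M.ev_cons 11 [8, 12, 0], show ([8, 12, 0] : List ℕ) = [8, 12] ++ [0] from rfl,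
        M.ev_append] at e2
      rw [commutatorElement_def, e2]; group
    rw [this]; exact Subgroup.commutator_mem_commutator h0 h812
  have m2 : M.ev [2] ∈ ⁅T, T⁆ := by
    obtain ⟨i, hi, e⟩ := b13
    refine hconj (i := i) (x := M.ev [13]) ?_ (by rw [← M.ev_cons, ← M.ev_append]; exact M.ev_eq e)
    have : M.ev [13] = ⁅M.ev [0], M.ev [9]⁆ := by
      have e2 := M.ev_eq c13
      rw [M.ev_cons 0 [9], M.ev_cons 13 [9, 0], show ([9, 0] : List ℕ) = [9] ++ [0] from rfl, M.ev_append] at e2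
      rw [commutatorElement_def, e2]; group
    rw [this]; exact Subgroup.commutator_mem_commutator h0 h9
  let π : G →* G ⧸ ⁅T, T⁆ := QuotientGroup.mk' _
  have p0 : π (M.ev [0]) = 1 := (QuotientGroup.eq_one_iff _).2 m0
  have p2 : π (M.ev [2]) = 1 := (QuotientGroup.eq_one_iff _).2 m2
  have hn := neg_ok
  simp only [List.all_eq_true, List.any_eq_true, Bool.and_eq_true, nat_beq_iff, nat_blt_iff] at hn
  have hg := gen_ok
  simp only [Bool.and_eq_true, List.all_eq_true, List.contains_iff_mem] at hg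
  obtain ⟨⟨g16, g17⟩, gnb⟩ := hg
  have hcy := cyc_ok
  simp only [Bool.and_eq_true, List.any_eq_true] at hcy
  obtain ⟨⟨c3, b, hb, e12⟩, j, -, ej, b', hb', ej'⟩ := hcy
  have qq : π (M.ev [1]) * π (M.ev [1]) = 1 := by
    rw [← map_mul, ← M.ev_append, show ([1] ++ [1] : List ℕ) = [1, 1] from rfl, M.ev_eq c1, p2]
  have p3 : π (M.ev [3]) = π (M.ev [1]) := by rw [M.ev_eq c3, M.ev_cons, map_mul, p2, one_mul]
  have p13 : ∀ b ∈ ([1, 3] : List ℕ), π (M.ev [b]) = π (M.ev [1]) := by
    intro b hb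
    simp only [List.mem_cons, List.not_mem_nil, or_false] at hb
    rcases hb with rfl | rfl
    · rfl
    · exact p3
  have nn : ∀ {s : ℕ}, s < 2 → π (M.ev [16 + s]) * π (M.ev [16 + s]) = 1 := fun hs => by
    rw [← map_mul, M.nW_sq hs, map_one]
  have pna : π (M.ev [16]) = 1 := by
    obtain ⟨⟨k, s, x⟩, hmem, ⟨⟨h1, h2⟩, h3⟩, h4⟩ := hn 18 (by simp)
    have e18 : π (M.ev [18]) = π (M.ev [16 + s]) * π (M.ev [x]) * π (M.ev [16 + s]) := by
      rw [M.ev_eq h4, M.ev_cons, M.ev_cons x, map_mul, map_mul]; group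
    have h18 : ∀ k ∈ negTab, k.1 = 18 → k.2.1 = 0 ∧ k.2.2 = 0 := by
      have h : (negTab.all fun k => !Nat.beq k.1 18 || (Nat.beq k.2.1 0 && Nat.beq k.2.2 0)) = true := by
        decide +kernel
      simp only [List.all_eq_true, Bool.or_eq_true, Bool.not_eq_true', Bool.and_eq_true, nat_beq_iff] at h
      exact fun k hk e => (h k hk).resolve_left fun h' => by simp [e] at h'
    obtain ⟨rfl, rfl⟩ := h18 _ hmem h1
    have e16 := congrArg π (M.ev_eq g16)
    rw [show ([0, 18, 0] : List ℕ) = [0] ++ [18] ++ [0] from rfl, M.ev_append, M.ev_append, map_mul, map_mul, e18, p0,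
      one_mul, mul_one, mul_one, nn (show 0 < 2 by norm_num)] at e16
    exact e16
  have qn : π (M.ev [17]) * π (M.ev [1]) * π (M.ev [17]) = π (M.ev [1]) := by
    have a1 := congrArg π (M.ev_eq e12)
    have a2 := congrArg π (M.ev_eq ej')
    have a3 := congrArg π (M.ev_eq ej)
    have e4 : ∀ a b c d : ℕ, M.ev [a, b, c, d] = M.ev [a] * M.ev [b] * M.ev [c] * M.ev [d] := fun a b c d => by
      rw [← M.ev_append, ← M.ev_append, ← M.ev_append]; rfl
    have e2 : ∀ a b : ℕ, M.ev [a, b] = M.ev [a] * M.ev [b] := fun a b => by rw [← M.ev_append]; rfl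
    rw [e4, e4] at a1 a2
    rw [e2, e2] at a3
    simp only [map_mul, pna, one_mul, mul_one, p13 b hb, p13 b' hb'] at a1 a2 a3
    have n2 := nn (show 1 < 2 by norm_num)
    rw [show (16 : ℕ) + 1 = 17 from rfl] at n2
    have hx : π (M.ev [12]) = π (M.ev [17]) * π (M.ev [1]) * π (M.ev [17]) := by
      rw [← a1, mul_assoc, n2, mul_one]
    have hy : π (M.ev [j]) = π (M.ev [12]) := by
      rw [hx, ← a2, mul_assoc, n2, mul_one]
    rw [hy] at a3
    rw [hx] at a3
    calc π (M.ev [17]) * π (M.ev [1]) * π (M.ev [17])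
        = π (M.ev [17]) * (π (M.ev [17]) * π (M.ev [1]) * π (M.ev [17])) * π (M.ev [17]) := by
          conv_rhs => rw [a3, mul_assoc, n2, mul_one]
      _ = π (M.ev [17]) * π (M.ev [17]) * π (M.ev [1]) * (π (M.ev [17]) * π (M.ev [17])) := by group
      _ = π (M.ev [1]) := by rw [n2, one_mul, mul_one]
  let Q : Subgroup (G ⧸ ⁅T, T⁆) := Subgroup.zpowers (π (M.ev [1]))
  have hq : π (M.ev [1]) ∈ Q := Subgroup.mem_zpowers _
  have small : ∀ x < 4, π (M.ev [x]) ∈ Q := by
    intro x hx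
    interval_cases x
    · rw [p0]; exact one_mem _
    · exact hq
    · rw [p2]; exact one_mem _
    · rw [p3]; exact hq
  have pneg : ∀ k ∈ ([19, 20, 21] : List ℕ), π (M.ev [k]) ∈ Q := by
    intro k hk
    obtain ⟨⟨k', s, x⟩, -, ⟨⟨-, hs⟩, hx⟩, h4⟩ := hn k (by simp at hk ⊢; omega)
    dsimp only at hs hx h4
    rw [M.ev_eq h4, M.ev_cons, M.ev_cons x, map_mul, map_mul]
    have hs' : s = 0 ∨ s = 1 := by omega
    rcases hs' with rfl | rfl
    · rw [pna, one_mul, mul_one]; exact small x hx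
    · show π (M.ev [17]) * (π (M.ev [x]) * π (M.ev [17])) ∈ Q
      rw [← mul_assoc]
      interval_cases x
      · rw [p0, mul_one, show π (M.ev [17]) * π (M.ev [17]) = 1 from nn (show 1 < 2 by norm_num)]; exact one_mem _
      · rw [qn]; exact hq
      · rw [p2, mul_one, show π (M.ev [17]) * π (M.ev [17]) = 1 from nn (show 1 < 2 by norm_num)]; exact one_mem _
      · rw [p3, qn]; exact hq
  have pnb : π (M.ev [17]) ∈ Q := by
    rw [M.ev_eq g17]
    have : ∀ w : List ℕ, (∀ l ∈ w, l ∈ ([1, 2, 3, 19, 20, 21] : List ℕ)) → π (M.ev w) ∈ Q := by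
      intro w
      induction w with
      | nil => intro _; rw [M.ev_nil, map_one]; exact one_mem _
      | cons a w ih =>
        intro hw
        rw [M.ev_cons, map_mul]
        refine mul_mem ?_ (ih fun l hl => hw l (List.mem_cons_of_mem _ hl))
        have ha := hw a List.mem_cons_self
        simp only [List.mem_cons, List.not_mem_nil, or_false] at ha
        rcases ha with rfl | rfl | rfl | rfl | rfl | rfl
        iterate 3 exact small _ (by norm_num)
        all_goals exact pneg _ (by simp)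
    exact this nbW gnb
  have hall : M.Gam ≤ Q.comap π := by
    refine M.clos_le fun j hj => ?_
    have hj' := List.mem_range.1 hj
    by_cases h16 : j < 16
    · have hb := base_ok
      simp only [List.all_eq_true, List.mem_range, List.any_eq_true, Bool.and_eq_true, nat_beq_iff, nat_blt_iff] at hb
      obtain ⟨e, -, ⟨⟨-, h2⟩, h3⟩, h4⟩ := hb j h16
      have e' := congrArg π (M.ev_eq h4)
      rw [M.ev_cons, M.ev_append, map_mul, map_mul] at e'
      have hw : π (M.ev (stw e.2.1)) ∈ Q :=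
        M.stw_mem h2 (S := Q.comap π) (by show π _ ∈ Q; rw [pna]; exact one_mem _) pnb
      show π (M.ev [j]) ∈ Q
      rw [eq_mul_inv_of_mul_eq e']
      exact mul_mem (mul_mem hw (small _ h3)) (inv_mem hw)
    · rcases (by omega : j = 16 ∨ j = 17) with rfl | rfl
      · show π _ ∈ Q; rw [pna]; exact one_mem _
      · exact pnb
  intro g
  obtain ⟨n, hn⟩ := Subgroup.mem_zpowers_iff.1 (hall (show g ∈ M.Gam from htop ▸ Subgroup.mem_top g))
  rcases Int.even_or_odd n with ⟨k, rfl⟩ | ⟨k, rfl⟩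
  · left
    rw [← two_mul, zpow_mul, zpow_two, qq, one_zpow] at hn
    exact (QuotientGroup.eq_one_iff _).1 hn.symm
  · right
    refine (QuotientGroup.eq_one_iff _).1 (show π (g * M.ev [1]) = 1 from ?_)
    rw [map_mul, ← hn, zpow_add, zpow_mul, zpow_two, qq, one_zpow, one_mul, zpow_one, qq]

end Model

/-- a perfect index two subgroup is simple when normal subgroups are big and its order is not a square -/
theorem isSimple_of_index_two {G : Type*} [Group G] [Finite G] (T B : Subgroup G) [T.Normal] [Group.IsSolvable ↥B]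
    (hperf : ⁅T, T⁆ = T) (hT : T ≠ ⊥) (hidx : T.index = 2) (hsq : ∀ m : ℕ, Nat.card ↥T ≠ m * m)
    (hcore : ∀ N : Subgroup G, N.Normal → N ≤ B → N = ⊥)
    (hbig : ∀ N : Subgroup G, N.Normal → ¬ N ≤ B → N ⊔ B = ⊤) :
    IsSimpleGroup ↥T ∧ ¬ IsMulCommutative ↥T := by
  have habove : ∀ N : Subgroup G, N.Normal → N ≠ ⊥ → T ≤ N := by
    intro N hN hne
    have htop := hbig N hN fun h => hne (hcore N hN h)
    have hsurj : Function.Surjective ((QuotientGroup.mk' N).comp B.subtype) := by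
      intro q
      obtain ⟨g, rfl⟩ := QuotientGroup.mk'_surjective N q
      obtain ⟨x, hx, b, hb, rfl⟩ := Subgroup.mem_sup_of_normal_left.1
        (show g ∈ N ⊔ B from htop ▸ Subgroup.mem_top g)
      refine ⟨⟨b, hb⟩, ?_⟩
      simp only [MonoidHom.comp_apply, map_mul]
      rw [show QuotientGroup.mk' N x = 1 from (QuotientGroup.eq_one_iff x).2 hx, one_mul]
      rfl
    have : Group.IsSolvable (G ⧸ N) := Group.isSolvable_of_surjective hsurj
    obtain ⟨n, hn⟩ := (inferInstance : Group.IsSolvable (G ⧸ N)).solvable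
    have hTn : ∀ k, T.map (QuotientGroup.mk' N) ≤ derivedSeries (G ⧸ N) k := by
      intro k
      induction k with
      | zero => exact le_top
      | succ k ih =>
        conv_lhs => rw [← hperf, Subgroup.map_commutator]
        exact Subgroup.commutator_mono ih ih
    intro g hg
    have h1 := hTn n ⟨g, hg, rfl⟩
    rw [hn, Subgroup.mem_bot] at h1
    exact (QuotientGroup.eq_one_iff g).1 h1
  have hnt : Nontrivial ↥T := (Subgroup.nontrivial_iff_ne_bot T).2 hT
  refine ⟨⟨fun K hK => ?_⟩, fun hc => hT ?_⟩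
  · by_contra hcon
    push Not at hcon
    obtain ⟨hK1, hK2⟩ := hcon
    let A : Subgroup G := K.map T.subtype
    have hAT : A ≤ T := Subgroup.map_subtype_le K
    have hAn : ∀ x ∈ T, ∀ a ∈ A, x * a * x⁻¹ ∈ A := by
      rintro x hx _ ⟨k, hk, rfl⟩
      exact ⟨⟨x, hx⟩ * k * (⟨x, hx⟩ : T)⁻¹, hK.conj_mem k hk _, rfl⟩
    obtain ⟨g, hg⟩ : ∃ g, g ∉ T := by
      by_contra h
      push Not at h
      rw [(Subgroup.eq_top_iff' T).2 h, Subgroup.index_top] at hidx
      norm_num at hidx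
    have hcases : ∀ x : G, x ∈ T ∨ g⁻¹ * x ∈ T := fun x => by
      by_cases hx : x ∈ T
      · exact Or.inl hx
      · exact Or.inr ((Subgroup.mul_mem_iff_of_index_two hidx).2
          ⟨fun h => absurd (by simpa using inv_mem h) hg, fun h => absurd h hx⟩)
    let A' : Subgroup G := A.map (MulAut.conj g).toMonoidHom
    have hA'T : A' ≤ T := by
      rintro _ ⟨a, ha, rfl⟩
      exact (inferInstance : T.Normal).conj_mem a (hAT ha) g
    have hA'n : ∀ x ∈ T, ∀ a ∈ A', x * a * x⁻¹ ∈ A' := by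
      rintro x hx _ ⟨a, ha, rfl⟩
      refine ⟨(g⁻¹ * x * g) * a * (g⁻¹ * x * g)⁻¹, hAn _ ?_ a ha, ?_⟩
      · simpa using (inferInstance : T.Normal).conj_mem x hx g⁻¹
      · simp only [MulEquiv.coe_toMonoidHom, MulAut.conj_apply]; group
    have hg2 : g * g ∈ T := Subgroup.mul_self_mem_of_index_two hidx g
    have swap : ∀ a ∈ A', g * a * g⁻¹ ∈ A := by
      rintro _ ⟨a, ha, rfl⟩
      have := hAn _ hg2 a ha
      simp only [MulEquiv.coe_toMonoidHom, MulAut.conj_apply]
      rwa [show g * g * a * (g * g)⁻¹ = g * (g * a * g⁻¹) * g⁻¹ by group] at this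
    have hI : (A ⊓ A').Normal := ⟨fun a ha x => by
      obtain ⟨h1, h2⟩ := Subgroup.mem_inf.1 ha
      rcases hcases x with hx | hx
      · exact Subgroup.mem_inf.2 ⟨hAn x hx a h1, hA'n x hx a h2⟩
      · have e : x * a * x⁻¹ = g * ((g⁻¹ * x) * a * (g⁻¹ * x)⁻¹) * g⁻¹ := by group
        rw [e]
        exact Subgroup.mem_inf.2 ⟨swap _ (hA'n _ hx a h2), ⟨_, hAn _ hx a h1, rfl⟩⟩⟩
    have hA1 : A ≠ ⊥ := fun h => hK1 ((Subgroup.map_eq_bot_iff_of_injective _ T.subtype_injective).1 h)
    have hA2 : A ≠ T := fun h => hK2 (by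
      rw [eq_top_iff]
      intro x _
      obtain ⟨k, hk, e⟩ := (h.symm ▸ x.2 : (x : G) ∈ A)
      exact (T.subtype_injective e) ▸ hk)
    have hbot : A ⊓ A' = ⊥ := by
      by_contra hne
      exact hA2 (le_antisymm hAT ((habove _ hI hne).trans inf_le_left))
    have hjoin : T ≤ A ⊔ A' := by
      refine habove _ ⟨fun a ha x => ?_⟩ fun h => hA1 (eq_bot_iff.2 (h ▸ le_sup_left))
      refine (show A ⊔ A' ≤ (A ⊔ A').comap (MulAut.conj x).toMonoidHom from sup_le (fun a ha => ?_) fun a ha => ?_) ha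
      · show x * a * x⁻¹ ∈ A ⊔ A'
        rcases hcases x with hx | hx
        · exact Subgroup.mem_sup_left (hAn x hx a ha)
        · rw [show x * a * x⁻¹ = g * ((g⁻¹ * x) * a * (g⁻¹ * x)⁻¹) * g⁻¹ by group]
          exact Subgroup.mem_sup_right ⟨_, hAn _ hx a ha, rfl⟩
      · show x * a * x⁻¹ ∈ A ⊔ A'
        rcases hcases x with hx | hx
        · exact Subgroup.mem_sup_right (hA'n x hx a ha)
        · rw [show x * a * x⁻¹ = g * ((g⁻¹ * x) * a * (g⁻¹ * x)⁻¹) * g⁻¹ by group]
          exact Subgroup.mem_sup_left (swap _ (hA'n _ hx a ha))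
    have hnorm : A' ≤ Subgroup.normalizer (A : Set G) := by
      intro y hy
      refine Subgroup.mem_normalizer_iff.2 fun a => ⟨fun ha => hAn y (hA'T hy) a ha, fun ha => ?_⟩
      have := hAn y⁻¹ (inv_mem (hA'T hy)) _ ha
      simpa [mul_assoc] using this
    have hc : Nat.card ↥T = Nat.card ↥A * Nat.card ↥A' := by
      rw [← Nat.card_prod]
      refine (Nat.card_eq_of_bijective
        (fun p : ↥A × ↥A' => (⟨(p.1 : G) * p.2, mul_mem (hAT p.1.2) (hA'T p.2.2)⟩ : ↥T)) ⟨?_, ?_⟩).symm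
      · rintro ⟨a, b⟩ ⟨c, d⟩ e
        have e' : (a : G) * b = c * d := congrArg Subtype.val e
        have h1 : (c : G)⁻¹ * a = d * (b : G)⁻¹ := by
          rw [eq_mul_inv_iff_mul_eq, mul_assoc, e', inv_mul_cancel_left]
        have h2 : (c : G)⁻¹ * a ∈ A ⊓ A' :=
          Subgroup.mem_inf.2 ⟨mul_mem (inv_mem c.2) a.2, h1 ▸ mul_mem d.2 (inv_mem b.2)⟩
        rw [hbot, Subgroup.mem_bot] at h2
        rw [h2] at h1
        exact Prod.ext (Subtype.ext (inv_mul_eq_one.1 h2).symm) (Subtype.ext (mul_inv_eq_one.1 h1.symm).symm)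
      · intro t
        have ht := hjoin t.2
        rw [← SetLike.mem_coe, Subgroup.coe_mul_of_right_le_normalizer_left A A' hnorm] at ht
        obtain ⟨a, ha, b, hb, e⟩ := ht
        exact ⟨(⟨a, ha⟩, ⟨b, hb⟩), Subtype.ext e⟩
    have hcA : Nat.card ↥A' = Nat.card ↥A :=
      (Nat.card_congr (A.equivMapOfInjective (MulAut.conj g).toMonoidHom (MulAut.conj g).injective).toEquiv).symm
    exact hsq _ (hc.trans (by rw [hcA]))
  · rw [← hperf, eq_bot_iff, Subgroup.commutator_le]
    intro a ha b hb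
    rw [Subgroup.mem_bot, commutatorElement_eq_one_iff_mul_comm]
    exact congrArg Subtype.val (hc.is_comm.comm (⟨a, ha⟩ : T) ⟨b, hb⟩)

end CfsgLib.Lie.Tits
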