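/-
The parity character and the derived subgroup in a model with parities over the checked identities.
-/
import Cfsg.Agent.Lib.Lie.Twisted.Tits.Normal
import Mathlib.GroupTheory.Sylow
import Mathlib.GroupTheory.Nilpotent

set_option autoImplicit false

namespace CfsgLib.Lie.Tits

open CfsgLib.Lie.Chev CfsgLib.Lie.TitsEval
open scoped commutatorElement

theorem odd_word {w : List ℕ} (hw : w ∈ prods cls) (hp : par w = true) :
    chkDiff Cfsg.Lie.chevF4 1 (runP 1 tabF4 (flat (w ++ w)) 64) (runP 1 tabF4 (flat []) 64) = true := by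
  have h := odd_ok
  simp only [List.all_eq_true, Bool.or_eq_true, Bool.not_eq_true'] at h
  exact (h w hw).resolve_left (by simp [hp])

/-- a model with parities, with a subgroup separating the nontrivial cells -/
structure Split (G' : Type*) [Group G'] extends Model (G' × Multiplicative (ZMod 2)) where
  V : Subgroup G'
  hV : ∀ j < 16, (L j).1 ∈ V
  hN : ∀ i, i + 1 < 16 → (toModel.ev (stw (i + 1))).1 ∉ V
  hodd : ∀ w ∈ prods cls, (toModel.ev w).2 ≠ 1 → (toModel.ev w).1 * (toModel.ev w).1 ≠ 1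
  hL : ∀ l, L l ∈ toModel.Gam
  p0 : (toModel.ev [0]).2 = 1
  p9 : (toModel.ev [9]).2 = 1
  p812 : (toModel.ev [8, 12]).2 = 1
  p1 : (toModel.ev [1]).2 ≠ 1

namespace Split

variable {G' : Type*} [Group G'] (S : Split G')

theorem sq_A : ∀ a : Multiplicative (ZMod 2), a * a = 1 := by decide

theorem Bsub_fst {b : G' × Multiplicative (ZMod 2)} (hb : b ∈ S.Bsub) : b.1 ∈ S.V := by
  refine (show S.toModel.Bsub ≤ S.V.comap (MonoidHom.fst _ _) from S.toModel.clos_le fun j hj => ?_) hb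
  rw [S.toModel.ev_one]
  exact S.hV j (List.mem_range.1 hj)

theorem cell_fst {g : G' × Multiplicative (ZMod 2)} (hg : g ∈ S.Gam) (h : g.1 ∈ S.V) : g ∈ S.Bsub := by
  obtain ⟨i, hi, b, hb, b', hb', rfl⟩ := S.toModel.cell_of_mem hg
  rcases i with _ | i
  · rw [show stw 0 = [] from rfl, Model.ev_nil, mul_one]; exact mul_mem hb hb'
  · refine absurd ?_ (S.hN i hi)
    have := mul_mem (mul_mem (inv_mem (S.Bsub_fst hb)) h) (inv_mem (S.Bsub_fst hb'))
    simpa [mul_assoc] using this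

theorem Bsub_prods {b : G' × Multiplicative (ZMod 2)} (hb : b ∈ S.Bsub) : ∃ w ∈ prods cls, b = S.ev w := by
  refine S.toModel.mem_prods cls chain_ok b ?_
  rw [perm_ok.1]; exact hb

theorem fibre {g : G' × Multiplicative (ZMod 2)} (hg : g ∈ S.Gam) (h : g.1 = 1) : g = 1 := by
  obtain ⟨w, hw, rfl⟩ := S.Bsub_prods (S.cell_fst hg (h ▸ one_mem _))
  refine Prod.ext h (by_contra fun h2 => S.hodd w hw h2 ?_)
  rw [h, one_mul]

/-- the group with parities, as a group -/
abbrev Gp : Type _ := ↥S.Gam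

/-- the model on the group with parities -/
noncomputable def mG : Model S.Gp where
  L l := ⟨S.L l, S.hL l⟩
  eq_of u v h := Subtype.ext (by
    rw [SubmonoidClass.coe_list_prod, SubmonoidClass.coe_list_prod, List.map_map, List.map_map]
    exact S.eq_of u v h)

theorem mG_val (w : List ℕ) : ((S.mG.ev w : S.Gp) : G' × Multiplicative (ZMod 2)) = S.ev w := by
  show ((((w.map S.mG.L).prod : S.Gp)) : G' × Multiplicative (ZMod 2)) = _
  rw [SubmonoidClass.coe_list_prod, List.map_map]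
  rfl

theorem mG_clos (R : List ℕ) : (S.mG.clos R).map S.Gam.subtype = S.clos R := by
  show (Subgroup.closure _).map _ = Subgroup.closure _
  rw [MonoidHom.map_closure, ← Set.image_comp]
  rfl

theorem mG_top : S.mG.Gam = ⊤ := by
  refine Subgroup.map_injective S.Gam.subtype_injective ?_
  rw [← MonoidHom.range_eq_map, Subgroup.range_subtype]
  exact S.mG_clos _

/-- the parity character -/
noncomputable def χ : S.Gp →* Multiplicative (ZMod 2) := (MonoidHom.snd _ _).comp S.Gam.subtype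

theorem χ_ev (w : List ℕ) : S.χ (S.mG.ev w) = (S.ev w).2 := congrArg Prod.snd (S.mG_val w)

theorem derived : commutator S.Gp = S.χ.ker ∧ ⁅S.χ.ker, S.χ.ker⁆ = S.χ.ker ∧ S.χ.ker.index = 2 := by
  have h := S.mG.derived_spec S.mG_top S.χ.ker
    (MonoidHom.mem_ker.2 ((S.χ_ev _).trans S.p0)) (MonoidHom.mem_ker.2 ((S.χ_ev _).trans S.p9))
    (MonoidHom.mem_ker.2 ((S.χ_ev _).trans S.p812))
  have hN : ⁅S.χ.ker, S.χ.ker⁆ ≤ S.χ.ker := Subgroup.commutator_le_left _ _
  have h1 : S.χ (S.mG.ev [1]) ≠ 1 := fun e => S.p1 ((S.χ_ev _).symm.trans e)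
  have heq : ⁅S.χ.ker, S.χ.ker⁆ = S.χ.ker := by
    refine le_antisymm hN fun g hg => ?_
    rcases h g with h | h
    · exact h
    · refine absurd ?_ h1
      have := MonoidHom.mem_ker.1 (hN h)
      rwa [map_mul, MonoidHom.mem_ker.1 hg, one_mul] at this
  refine ⟨le_antisymm ?_ ?_, heq, ?_⟩
  · rw [commutator_def, Subgroup.commutator_le]
    intro a _ b _
    rw [MonoidHom.mem_ker, map_commutatorElement, commutatorElement_eq_one_iff_mul_comm]
    exact mul_comm _ _
  · conv_lhs => rw [← heq]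
    exact Subgroup.commutator_mono le_top le_top
  · rw [Subgroup.index_ker]
    have key : ∀ c a : Multiplicative (ZMod 2), c ≠ 1 → a ≠ 1 → c = a := by decide
    have : S.χ.range = ⊤ := top_unique fun a _ => by
      by_cases ha : a = 1
      · exact ha ▸ one_mem _
      · exact ⟨S.mG.ev [1], key _ a h1 ha⟩
    rw [this, Subgroup.card_top, Nat.card_eq_fintype_card]
    rfl

/-- the unipotent subgroup -/
noncomputable def BG : Subgroup S.Gp := S.mG.Bsub

theorem Bsub_mem_iff {g : S.Gp} : g ∈ S.BG ↔ (g : G' × Multiplicative (ZMod 2)).1 ∈ S.V := by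
  constructor
  · intro h
    exact S.Bsub_fst (show (g : G' × Multiplicative (ZMod 2)) ∈ S.clos (List.range 16) by
      rw [← S.mG_clos]; exact ⟨g, h, rfl⟩)
  · intro h
    have h' : (g : G' × Multiplicative (ZMod 2)) ∈ (S.mG.clos (List.range 16)).map S.Gam.subtype := by
      rw [S.mG_clos]; exact S.cell_fst g.2 h
    obtain ⟨x, hx, e⟩ := h'
    rwa [S.Gam.subtype_injective e] at hx

theorem even_of_involution [Finite S.Gp] {N : ℕ} (hB : Nat.card ↥S.BG = 2 ^ N) (hodd : Odd S.BG.index) {g : S.Gp}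
    (hg : orderOf g = 2) : g ∈ commutator S.Gp := by
  rw [S.derived.1, MonoidHom.mem_ker]
  have hp : IsPGroup 2 ↥S.BG := IsPGroup.of_card hB
  have h2 : ¬ 2 ∣ S.BG.index := fun h => Nat.not_even_iff_odd.2 hodd (even_iff_two_dvd.2 h)
  let P0 : Sylow 2 S.Gp := hp.toSylow h2
  have hz : IsPGroup 2 ↥(Subgroup.zpowers g) := IsPGroup.of_card (n := 1) (by rw [Nat.card_zpowers, hg, pow_one])
  obtain ⟨Q, hQ⟩ := hz.exists_le_sylow
  obtain ⟨x, hx⟩ := MulAction.exists_smul_eq S.Gp Q P0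
  have hb : x * g * x⁻¹ ∈ S.BG := by
    have h1 : x * g * x⁻¹ ∈ ((x • Q : Sylow 2 S.Gp) : Subgroup S.Gp) := by
      rw [Sylow.coe_subgroup_smul]
      exact ⟨g, hQ (Subgroup.mem_zpowers g), rfl⟩
    rwa [hx, IsPGroup.toSylow_coe] at h1
  have hsq : (x * g * x⁻¹) * (x * g * x⁻¹) = 1 := by
    rw [show x * g * x⁻¹ * (x * g * x⁻¹) = x * (g * g) * x⁻¹ by group, show g * g = 1 by
      have := pow_orderOf_eq_one g; rwa [hg, pow_two] at this, mul_one, mul_inv_cancel]
  have hb' : ((x * g * x⁻¹ : S.Gp) : G' × Multiplicative (ZMod 2)) ∈ S.Bsub := S.cell_fst (Subtype.prop _)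
    (S.Bsub_mem_iff.1 hb)
  obtain ⟨w, hw, e⟩ := S.Bsub_prods hb'
  have hkey : S.χ (x * g * x⁻¹) = 1 := by
    by_contra hne
    refine S.hodd w hw (e ▸ hne) ?_
    rw [← e, ← Prod.fst_mul, ← Subgroup.coe_mul, hsq, Subgroup.coe_one, Prod.fst_one]
  rwa [map_mul, map_mul, map_inv, mul_comm (S.χ x), mul_assoc, mul_inv_cancel, mul_one] at hkey

theorem simple [Finite S.Gp] {N : ℕ} (hB : Nat.card ↥S.BG = 2 ^ N) (hG : Nat.card S.Gp = 35942400)
    (hcore : ∀ K : Subgroup S.Gp, K.Normal → K ≤ S.BG → K = ⊥) :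
    (commutator S.Gp).index = 2 ∧ IsSimpleGroup ↥(commutator S.Gp) ∧ ¬ IsMulCommutative ↥(commutator S.Gp) ∧
      Nat.card ↥(commutator S.Gp) = 17971200 := by
  obtain ⟨h1, h2, h3⟩ := S.derived
  have hnil : Group.IsNilpotent ↥S.BG := (IsPGroup.of_card hB).isNilpotent
  have hsol : Group.IsSolvable ↥S.BG := IsNilpotent.to_isSolvable
  have hc : Nat.card ↥S.χ.ker = 17971200 := by
    have := S.χ.ker.card_mul_index
    rw [h3, hG] at this
    omega
  obtain ⟨hs, hn⟩ := isSimple_of_index_two S.χ.ker S.BG h2 (fun hbot => by simp [hbot] at hc) h3 (fun m e => by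
      rw [hc] at e
      rcases le_or_gt m 4239 with hm | hm
      · have := Nat.mul_le_mul hm hm; omega
      · have := Nat.mul_le_mul hm hm; omega)
    hcore (fun K hK h => by
      have := hK
      exact S.mG.normal_sup_B S.mG_top K h)
  rw [h1]
  exact ⟨h3, hs, hn, hc⟩

end Split

end CfsgLib.Lie.Tits
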