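/-
The twisted group of type F4 over two elements: derived subgroup of index two, simplicity, involutions.
-/
import Cfsg.Agent.Lib.Lie.Twisted.Tits.Split
import Cfsg.Agent.Lib.Lie.Twisted.F4Torus
import Cfsg.Agent.Lib.Lie.Twisted.Struct

set_option autoImplicit false

namespace CfsgLib.Lie.Tits

open Cfsg.Lie
open CfsgLib.Lie.Chev CfsgLib.Lie.TitsEval CfsgLib.Lie.Chev.TwGroups

attribute [local irreducible] chevF4 ChevalleyDatum.group

/-- the ambient Chevalley group -/
abbrev G0 : Type := ↥(chevF4.group (ZMod 2))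

theorem card_zmod_two : Fintype.card (ZMod 2) = 2 ^ (2 * 0 + 1) := rfl

theorem nroots_eq : chevF4.nroots = 48 ∧ chevF4.rank = 4 ∧ half chevF4 = 24 := by decide +kernel

/-- the relation system over two elements -/
noncomputable abbrev R2 := chevRel certF4 (ZMod 2)

/-- the group element of a root word -/
noncomputable def wg (r : List ℕ) : G0 := wordG certF4 (ones r)

theorem wg_append (u v : List ℕ) : wg (u ++ v) = wg u * wg v := by simp [wg, wordG, ones]

theorem wg_nil : wg [] = 1 := rfl

theorem flat_lt (w : List ℕ) : ∀ r ∈ flat w, r < chevF4.nroots := by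
  intro r hr
  obtain ⟨l, -, hl⟩ := List.mem_flatMap.1 hr
  rw [nroots_eq.1]
  have h := let_ok
  simp only [List.all_eq_true, nat_blt_iff] at h
  rw [List.getD_eq_getElem?_getD] at hl
  cases e : letW[l]? with
  | none => rw [e] at hl; simp at hl
  | some v => rw [e] at hl; exact h v (List.mem_of_getElem? e) r hl

/-- a letter with its parity -/
noncomputable def letH (l : ℕ) : G0 × Multiplicative (ZMod 2) :=
  (wg (letW.getD l []), Multiplicative.ofAdd (b2z (letP.getD l false)))

theorem letH_prod (w : List ℕ) :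
    (w.map letH).prod = (wg (flat w), Multiplicative.ofAdd (b2z (par w))) := by
  induction w with
  | nil => rfl
  | cons a w ih =>
    rw [List.map_cons, List.prod_cons, ih]
    refine Prod.ext (wg_append _ _).symm ?_
    show Multiplicative.ofAdd (b2z (letP.getD a false)) * Multiplicative.ofAdd (b2z (par w)) = _
    rw [← ofAdd_add, ← b2z_xor]
    rfl

theorem wg_eq {u v : List ℕ} (h : eqW u v = true) : wg (flat u) = wg (flat v) := by
  simp only [eqW, Bool.and_eq_true] at h
  refine Subtype.ext (Units.ext ?_)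
  rw [wg, wg, wordG_val, wordG_val]
  refine wordMat_eq_of_run tab_ok id_ok (flat_lt u) (flat_lt v) ?_
  rw [nroots_eq.1, nroots_eq.2.1]
  exact h.2

theorem wg_ne {k : ℕ} (hk : 0 < k) {I : ℕ} {u v : List ℕ}
    (h : chkDiff chevF4 k (runP k tabF4 (flat u) I) (runP k tabF4 (flat v) I) = true) : wg (flat u) ≠ wg (flat v) := by
  intro e
  refine wordMat_ne_of_run tab_ok hk (flat_lt u) (flat_lt v) h ?_
  have := congrArg (fun g : G0 => ((g : GL chevF4.Idx (ZMod 2)) : Matrix chevF4.Idx chevF4.Idx (ZMod 2))) e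
  simpa only [wg, wordG_val] using this

/-- the model with parities -/
noncomputable def model0 : Model (G0 × Multiplicative (ZMod 2)) where
  L := letH
  eq_of u v h := by
    have hp : par u = par v := by
      simp only [eqW, Bool.and_eq_true, beq_iff_eq] at h; exact h.1
    rw [letH_prod, letH_prod, wg_eq h, hp]

theorem ev0 (w : List ℕ) : model0.ev w = (wg (flat w), Multiplicative.ofAdd (b2z (par w))) := letH_prod w

theorem letters_ok : (((List.range 16).all fun l => (letW.getD l []).all fun r => Nat.ble 24 r) &&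
    ((List.range 2).all fun s => decide (letW.getD (16 + s) [] =
      (bif Nat.beq s 0 then [33, 24] else [27, 25, 27, 25]).flatMap fun r => [r, 47 - r, r])) &&
    ([33, 24, 27, 25] : List ℕ).all fun r => Nat.beq (chevF4.neg r) (47 - r)) = true := by decide +kernel

theorem letters_default (l : ℕ) (hl : 22 ≤ l) : letW.getD l [] = [] ∧ letP.getD l false = false := by
  have h : letW.length = 22 ∧ letP.length = 22 := by decide +kernel
  exact ⟨List.getD_eq_default _ _ (by omega), List.getD_eq_default _ _ (by omega)⟩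

theorem HS_bot {g : G0} (hg : g ∈ R2.HS) : g = 1 := by
  refine Subgroup.mem_bot.1 ((show R2.HS ≤ ⊥ from (Subgroup.closure_le _).2 ?_) hg)
  rintro _ ⟨i, c, hc, rfl⟩
  have hc1 : c = 1 := by revert hc; revert c; decide
  rw [hc1, R2.he_one]
  exact one_mem _

theorem wg_UP {w : List ℕ} (h : ∀ r ∈ w, 24 ≤ r ∧ r < 48) : wg w ∈ R2.UP := by
  unfold wg wordG ones
  rw [List.map_map]
  refine list_prod_mem fun x hx => ?_
  obtain ⟨r, hr, rfl⟩ := List.mem_map.1 hx
  exact R2.xe_mem_US (r := ⟨r, by rw [nroots_eq.1]; exact (h r hr).2⟩) (S := posSet chevF4)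
    (show half chevF4 ≤ r by rw [nroots_eq.2.2]; exact (h r hr).1) 1

theorem wg_flatMap_NS : ∀ L : List ℕ, (∀ r ∈ L, r < 48 ∧ chevF4.neg r = 47 - r) →
    wg (L.flatMap fun r => [r, 47 - r, r]) ∈ R2.NS
  | [], _ => by rw [List.flatMap_nil, wg_nil]; exact one_mem _
  | r :: L, h => by
    rw [List.flatMap_cons, wg_append]
    refine mul_mem ?_ (wg_flatMap_NS L fun x hx => h x (List.mem_cons_of_mem _ hx))
    obtain ⟨h1, h2⟩ := h r List.mem_cons_self
    have := R2.ne_mem ⟨r, by rw [nroots_eq.1]; exact h1⟩ (c := (1 : ZMod 2)) one_ne_zero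
    have e : R2.ne r (1 : ZMod 2) = wg [r, 47 - r, r] := by
      show xG certF4 (ZMod 2) r 1 * xG certF4 (ZMod 2) (chevF4.neg r) (-1⁻¹) * xG certF4 (ZMod 2) r 1 = _
      rw [h2, inv_one, show (-1 : ZMod 2) = 1 from by decide]
      simp [wg, wordG, ones, mul_assoc]
    exact e ▸ this

theorem stw_NS {i : ℕ} (hi : i < 16) : wg (flat (stw i)) ∈ R2.NS := by
  have h := stw_letters
  simp only [List.all_eq_true, List.mem_range, Bool.or_eq_true, nat_beq_iff] at h
  have hl := letters_ok
  simp only [Bool.and_eq_true, List.all_eq_true, List.mem_range, decide_eq_true_iff, nat_beq_iff, nat_ble_iff] at hl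
  obtain ⟨⟨-, hs⟩, hn⟩ := hl
  have key : ∀ w : List ℕ, (∀ l ∈ w, l = 16 ∨ l = 17) → wg (flat w) ∈ R2.NS := by
    intro w
    induction w with
    | nil => intro _; exact one_mem _
    | cons a w ih =>
      intro hw
      rw [show flat (a :: w) = letW.getD a [] ++ flat w from rfl, wg_append]
      refine mul_mem ?_ (ih fun l hl => hw l (List.mem_cons_of_mem _ hl))
      obtain ⟨s, hs2, rfl⟩ : ∃ s, s < 2 ∧ a = 16 + s := by
        rcases hw a List.mem_cons_self with rfl | rfl
        · exact ⟨0, by norm_num, rfl⟩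
        · exact ⟨1, by norm_num, rfl⟩
      rw [hs s hs2]
      refine wg_flatMap_NS _ fun r hr => ?_
      have hr' : r ∈ ([33, 24, 27, 25] : List ℕ) := by
        have hr2 : ([33, 24] : List ℕ).all ([33, 24, 27, 25].contains ·) ∧
            ([27, 25, 27, 25] : List ℕ).all ([33, 24, 27, 25].contains ·) := by decide
        simp only [List.all_eq_true, List.contains_iff_mem] at hr2
        interval_cases s
        · exact hr2.1 r hr
        · exact hr2.2 r hr
      refine ⟨?_, hn r hr'⟩
      simp at hr'; omega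
  exact key _ (h i hi)

theorem UP_letters (j : ℕ) (hj : j < 16) : (model0.L j).1 ∈ R2.UP := by
  have hl := letters_ok
  simp only [Bool.and_eq_true, List.all_eq_true, List.mem_range, decide_eq_true_iff, nat_beq_iff, nat_ble_iff] at hl
  refine wg_UP fun r hr => ⟨hl.1.1 j hj r hr, ?_⟩
  have h := flat_lt [j] r (by simpa [flat] using hr)
  rwa [nroots_eq.1] at h

theorem neg_spec {k : ℕ} (hk : k ∈ ([18, 19, 20, 21] : List ℕ)) :
    ∃ s < 2, ∃ x < 4, eqW [k] [16 + s, x, 16 + s] = true := by
  have hn := neg_ok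
  simp only [List.all_eq_true, List.any_eq_true, Bool.and_eq_true, nat_beq_iff, nat_blt_iff] at hn
  obtain ⟨e, -, ⟨⟨-, h2⟩, h3⟩, h4⟩ := hn k hk
  exact ⟨_, h2, _, h3, h4⟩

theorem letters_Gam (l : ℕ) : model0.L l ∈ model0.Gam := by
  rcases lt_or_ge l 18 with h | h
  · rw [← Model.ev_one]; exact model0.let_mem (List.mem_range.2 h)
  rcases lt_or_ge l 22 with h' | h'
  · obtain ⟨s, hs, x, hx, e⟩ := neg_spec (k := l) (by simp; omega)
    rw [← Model.ev_one, model0.ev_eq e]
    refine model0.ev_mem fun a ha => List.mem_range.2 ?_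
    simp at ha; omega
  · obtain ⟨h1, h2⟩ := letters_default l h'
    have : model0.L l = 1 := by
      show letH l = 1
      rw [letH, h1, h2]
      rfl
    rw [this]; exact one_mem _

/-- the split model -/
noncomputable def split0 : Split G0 where
  toModel := model0
  V := R2.UP
  hV := UP_letters
  hN i hi h := by
    rw [ev0] at h
    have h1 := HS_bot (R2.BS_inf_NS.le (Subgroup.mem_inf.2 ⟨R2.UP_le_BS h, stw_NS hi⟩))
    have h2 := ne_ok
    simp only [List.all_eq_true, List.mem_range] at h2
    exact wg_ne (show 0 < 52 by norm_num) (h2 i (by omega)) h1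
  hodd w hw h := by
    rw [ev0] at h ⊢
    have hp : par w = true := by
      cases hp : par w with
      | false => rw [hp] at h; exact absurd rfl h
      | true => rfl
    intro e
    refine wg_ne one_pos (odd_word hw hp) ?_
    rw [show flat (w ++ w) = flat w ++ flat w from List.flatMap_append, wg_append]
    exact e
  hL := letters_Gam
  p0 := by rw [ev0, show par [0] = false from by decide +kernel]; rfl
  p9 := by rw [ev0, show par [9] = false from by decide +kernel]; rfl
  p812 := by rw [ev0, show par [8, 12] = false from by decide +kernel]; rfl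
  p1 := by rw [ev0, show par [1] = true from by decide +kernel]; decide

/-- the twisted subgroup inside the Chevalley group -/
noncomputable abbrev P2 : Subgroup G0 := (twistedF4 (ZMod 2) 1).subgroupOf (chevF4.group (ZMod 2))

theorem xG_zero (r : ℕ) : xG certF4 (ZMod 2) r 0 = 1 := R2.xe_zero r

theorem gen_letters :
    letW.getD 0 [] = [f4p1, f4p4] ∧ letW.getD 18 [] = [f4m1, f4m4] ∧
    letW.getD 1 [] = [f4a, f4b, f4ab] ∧ letW.getD 2 [] = [f4ab, f4aab] ∧ letW.getD 3 [] = [f4a, f4b, f4aab] ∧
    letW.getD 19 [] = [f4ma, f4mb, f4mab] ∧ letW.getD 20 [] = [f4mab, f4maab] ∧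
    letW.getD 21 [] = [f4ma, f4mb, f4maab] := by decide +kernel

/-- the first coordinates -/
noncomputable def imgP : Subgroup G0 := model0.Gam.map (MonoidHom.fst G0 (Multiplicative (ZMod 2)))

theorem letter_imgP (l : ℕ) : wg (letW.getD l []) ∈ imgP := ⟨_, letters_Gam l, rfl⟩

theorem words_imgP (w : List (ℕ × ZMod 2)) (hw : w ∈ f4Words (ZMod 2) 1) : wordG certF4 w ∈ imgP := by
  obtain ⟨e0, e18, e1, e2, e3, e19, e20, e21⟩ := gen_letters
  have hz : ∀ t : ZMod 2, t = 0 ∨ t = 1 := by decide
  have h11 : (1 : ZMod 2) + 1 = 0 := by decide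
  rcases hw with ⟨t, h⟩ | ⟨t, u, h⟩
  · rcases h with rfl | rfl <;> rcases hz t with rfl | rfl <;>
      simp only [f4PairWord, wordG, List.map_cons, List.map_nil, List.prod_cons, List.prod_nil, pow_one, xG_zero,
        mul_one]
    · exact one_mem _
    · have := letter_imgP 0; rw [e0] at this; simpa [wg, wordG, ones] using this
    · exact one_mem _
    · have := letter_imgP 18; rw [e18] at this; simpa [wg, wordG, ones] using this
  · rcases h with rfl | rfl <;> rcases hz t with rfl | rfl <;> rcases hz u with rfl | rfl <;>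
      simp only [b2ClassWord, wordG, List.map_cons, List.map_nil, List.prod_cons, List.prod_nil, pow_one, xG_zero,
        one_mul, mul_one, add_zero, zero_add, one_pow, ne_eq, OfNat.ofNat_ne_zero, not_false_eq_true, zero_pow, Nat.reduceAdd, h11]
    · exact one_mem _
    · have := letter_imgP 2; rw [e2] at this; simpa [wg, wordG, ones] using this
    · have := letter_imgP 1; rw [e1] at this; simpa [wg, wordG, ones] using this
    · have := letter_imgP 3; rw [e3] at this; simpa [wg, wordG, ones] using this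
    · exact one_mem _
    · have := letter_imgP 20; rw [e20] at this; simpa [wg, wordG, ones] using this
    · have := letter_imgP 19; rw [e19] at this; simpa [wg, wordG, ones] using this
    · have := letter_imgP 21; rw [e21] at this; simpa [wg, wordG, ones] using this

theorem gens_P2 (l : ℕ) (hl : l ∈ ([0, 1, 2, 3, 18, 19, 20, 21] : List ℕ)) : wg (letW.getD l []) ∈ P2 := by
  obtain ⟨e0, e18, e1, e2, e3, e19, e20, e21⟩ := gen_letters
  have h11 : (1 : ZMod 2) + 1 = 0 := by decide
  have pr : ∀ t, ∀ w, (w = f4PairWord 1 f4p1 f4p4 t ∨ w = f4PairWord 1 f4m1 f4m4 t) → wordG certF4 w ∈ P2 :=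
    fun t w h => wordG_mem certF4 (Or.inl ⟨t, h⟩)
  have qd : ∀ t u, ∀ w : List (ℕ × ZMod 2), (w = b2ClassWord 1 f4a f4b f4ab f4aab t u ∨
      w = b2ClassWord 1 f4ma f4mb f4mab f4maab t u) → wordG certF4 w ∈ P2 :=
    fun t u w h => wordG_mem certF4 (Or.inr ⟨t, u, h⟩)
  simp only [List.mem_cons, List.not_mem_nil, or_false] at hl
  rcases hl with rfl | rfl | rfl | rfl | rfl | rfl | rfl | rfl
  · rw [e0]; simpa [wg, wordG, ones, f4PairWord] using pr 1 _ (Or.inl rfl)
  · rw [e1]; simpa [wg, wordG, ones, b2ClassWord, xG_zero] using qd 1 0 _ (Or.inl rfl)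
  · rw [e2]; simpa [wg, wordG, ones, b2ClassWord, xG_zero] using qd 0 1 _ (Or.inl rfl)
  · rw [e3]; simpa [wg, wordG, ones, b2ClassWord, xG_zero, h11] using qd 1 1 _ (Or.inl rfl)
  · rw [e18]; simpa [wg, wordG, ones, f4PairWord] using pr 1 _ (Or.inr rfl)
  · rw [e19]; simpa [wg, wordG, ones, b2ClassWord, xG_zero] using qd 1 0 _ (Or.inr rfl)
  · rw [e20]; simpa [wg, wordG, ones, b2ClassWord, xG_zero] using qd 0 1 _ (Or.inr rfl)
  · rw [e21]; simpa [wg, wordG, ones, b2ClassWord, xG_zero, h11] using qd 1 1 _ (Or.inr rfl)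

theorem imgP_eq : imgP = P2 := by
  refine le_antisymm ?_ ?_
  · have gw : ∀ w : List ℕ, (∀ l ∈ w, wg (letW.getD l []) ∈ P2) → wg (flat w) ∈ P2 := by
      intro w
      induction w with
      | nil => intro _; exact one_mem _
      | cons a w ih =>
        intro hw
        rw [show flat (a :: w) = letW.getD a [] ++ flat w from rfl, wg_append]
        exact mul_mem (hw a List.mem_cons_self) (ih fun l hl => hw l (List.mem_cons_of_mem _ hl))
    have hg := gen_ok
    simp only [Bool.and_eq_true, List.all_eq_true, List.contains_iff_mem] at hg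
    obtain ⟨⟨g16, g17⟩, gnb⟩ := hg
    have one : ∀ a, wg (flat [a]) = wg (letW.getD a []) := fun a => by
      rw [show flat [a] = letW.getD a [] ++ [] from rfl, List.append_nil]
    have n16 : wg (letW.getD 16 []) ∈ P2 := by
      rw [← one, wg_eq g16]
      exact gw _ fun l hl => gens_P2 l (by simp at hl ⊢; omega)
    have n17 : wg (letW.getD 17 []) ∈ P2 := by
      rw [← one, wg_eq g17]
      exact gw _ fun l hl => gens_P2 l (by have := gnb l hl; simp at this ⊢; omega)
    have hst : ∀ i < 16, wg (flat (stw i)) ∈ P2 := fun i hi => gw _ fun l hl => by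
      have h := stw_letters
      simp only [List.all_eq_true, List.mem_range, Bool.or_eq_true, nat_beq_iff] at h
      rcases h i hi l hl with rfl | rfl <;> [exact n16; exact n17]
    refine Subgroup.map_le_iff_le_comap.2 (model0.clos_le fun j hj => ?_)
    show (model0.ev [j]).1 ∈ P2
    rw [ev0]
    show wg (flat [j]) ∈ P2
    have hj' := List.mem_range.1 hj
    by_cases h16 : j < 16
    · have hb := base_ok
      simp only [List.all_eq_true, List.mem_range, List.any_eq_true, Bool.and_eq_true, nat_beq_iff, nat_blt_iff] at hb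
      obtain ⟨e, -, ⟨⟨-, h2⟩, h3⟩, h4⟩ := hb j h16
      have e' := wg_eq h4
      rw [show flat (j :: stw e.2.1) = letW.getD j [] ++ flat (stw e.2.1) from rfl,
        show flat (stw e.2.1 ++ [e.2.2]) = flat (stw e.2.1) ++ flat [e.2.2] from List.flatMap_append,
        wg_append, wg_append, one] at e'
      rw [one, eq_mul_inv_of_mul_eq e']
      exact mul_mem (mul_mem (hst _ h2) (gens_P2 _ (by simp; omega))) (inv_mem (hst _ h2))
    · rw [one]
      rcases (by omega : j = 16 ∨ j = 17) with rfl | rfl <;> [exact n16; exact n17]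
  · rw [P2, show twistedF4 (ZMod 2) 1 = chevF4.genSubgroup (ZMod 2) (f4Words (ZMod 2) 1) from rfl,
      genSubgroup_subgroupOf certF4, Subgroup.closure_le]
    rintro _ ⟨w, hw, rfl⟩
    exact words_imgP w hw

/-- the projection to the twisted group -/
noncomputable def proj : split0.Gp →* ↥P2 :=
  ((MonoidHom.fst _ _).comp split0.Gam.subtype).codRestrict P2 fun g => imgP_eq ▸ ⟨g.1, g.2, rfl⟩

theorem proj_bijective : Function.Bijective proj := by
  constructor
  · rw [injective_iff_map_eq_one]
    intro g hg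
    exact Subtype.ext (split0.fibre g.2 (congrArg Subtype.val hg))
  · rintro ⟨x, hx⟩
    rw [← imgP_eq] at hx
    obtain ⟨g, hg, rfl⟩ := hx
    exact ⟨⟨g, hg⟩, rfl⟩

/-- the group with parities is the twisted group -/
noncomputable def toTw : split0.Gp ≃* ↥(twistedF4 (ZMod 2) 1) :=
  (MulEquiv.ofBijective proj proj_bijective).trans (Subgroup.subgroupOfEquivOfLe (genSubgroup_le certF4 _))

theorem card_Gp : Nat.card split0.Gp = 35942400 := by
  rw [Nat.card_congr toTw.toEquiv]
  have h := card_twF4 (K := ZMod 2) (m := 0) card_zmod_two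
  simpa using h

theorem card_BG : Nat.card ↥split0.BG = 2 ^ 12 := by
  obtain ⟨e, he, hU⟩ := (twF4 (K := ZMod 2) (m := 0) card_zmod_two).card_U1 two_pos (classCardF4 card_zmod_two)
  have he' : e = 12 := by have := nroots_eq.2.2; omega
  subst he'
  refine Eq.trans ?_ hU
  refine Nat.card_eq_of_bijective (fun b => ⟨(proj b : G0), Subgroup.mem_inf.2 ⟨(proj b).2,
    split0.Bsub_mem_iff.1 b.2⟩⟩) ⟨fun a b h => ?_, ?_⟩
  · exact Subtype.ext (proj_bijective.1 (Subtype.ext (congrArg (fun z => (z.1 : G0)) h)))
  · rintro ⟨x, hx⟩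
    obtain ⟨h1, h2⟩ := Subgroup.mem_inf.1 hx
    obtain ⟨g, hg⟩ := proj_bijective.2 ⟨x, h1⟩
    have e : ((g : G0 × Multiplicative (ZMod 2))).1 = x := congrArg Subtype.val hg
    refine ⟨⟨g, split0.Bsub_mem_iff.2 ?_⟩, Subtype.ext e⟩
    rw [e]; exact h2

theorem index_BG : Odd split0.BG.index := by
  have h := split0.BG.card_mul_index
  rw [card_BG, card_Gp] at h
  rw [show split0.BG.index = 8775 by omega]
  decide

theorem core_BG (N : Subgroup split0.Gp) (hN : N.Normal) (hle : N ≤ split0.BG) : N = ⊥ := by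
  have hcore := (twF4 (K := ZMod 2) (m := 0) card_zmod_two).core_eq_bot (faithfulF4 card_zmod_two)
  let e : split0.Gp →* ↥P2 := proj
  have hn : (N.map e).Normal := hN.map e proj_bijective.2
  have h1 : N.map e ≤ (R2.BS.subgroupOf P2).normalCore := by
    rw [Subgroup.normal_le_normalCore]
    rintro _ ⟨g, hg, rfl⟩
    exact R2.UP_le_BS (split0.Bsub_mem_iff.1 (hle hg))
  have h2 : N.map e = ⊥ := eq_bot_iff.2 (h1.trans hcore.le)
  exact (Subgroup.map_eq_bot_iff_of_injective _ proj_bijective.1).1 h2

theorem finite_Gp : Finite split0.Gp := Nat.finite_of_card_ne_zero (by rw [card_Gp]; norm_num)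

theorem map_commutator_equiv {A B : Type*} [Group A] [Group B] (e : A ≃* B) :
    (commutator A).map e.toMonoidHom = commutator B := by
  rw [commutator_def, Subgroup.map_commutator, Subgroup.map_top_of_surjective _ e.surjective, commutator_def]

theorem tits_main : (commutator ↥(twistedF4 (ZMod 2) 1)).index = 2 ∧ IsSimpleGroup TitsGroup ∧
    ¬ IsMulCommutative TitsGroup ∧ Nat.card TitsGroup = 17971200 := by
  have := finite_Gp
  obtain ⟨h1, h2, h3, h4⟩ := split0.simple card_BG card_Gp core_BG
  let e : ↥(commutator split0.Gp) ≃* TitsGroup :=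
    ((commutator split0.Gp).equivMapOfInjective toTw.toMonoidHom toTw.injective).trans
      (MulEquiv.subgroupCongr (map_commutator_equiv toTw))
  refine ⟨?_, ?_, fun hc => h3 ⟨⟨fun a b => e.injective ?_⟩⟩, ?_⟩
  · rw [← map_commutator_equiv toTw]
    exact (Subgroup.index_map_equiv _ toTw).trans h1
  · have := h2
    exact e.symm.isSimpleGroup
  · rw [map_mul, map_mul]; exact hc.is_comm.comm _ _
  · rw [← Nat.card_congr e.toEquiv]; exact h4

theorem tits_involution (g : ↥(twistedF4 (ZMod 2) 1)) (hg : orderOf g = 2) :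
    g ∈ commutator ↥(twistedF4 (ZMod 2) 1) := by
  have := finite_Gp
  have h := split0.even_of_involution card_BG index_BG (g := toTw.symm g) (by rw [MulEquiv.orderOf_eq]; exact hg)
  rw [← map_commutator_equiv toTw]
  exact ⟨_, h, toTw.apply_symm_apply g⟩

end CfsgLib.Lie.Tits
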